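import Mathlib.GroupTheory.PGroup
import Mathlib.GroupTheory.Sylow
import Mathlib.GroupTheory.IndexNormal

/-!
Normal subgroups of prime order in `p`-groups.
-/
set_option autoImplicit false

namespace CfsgLib.FusionExtraspecial

theorem le_center_of_card_eq {G : Type*} [Group G] [Finite G] {p : ℕ} [Fact p.Prime] (hG : IsPGroup p G)
    {N : Subgroup G} (hn : N.Normal) (hN : Nat.card N = p) : N ≤ Subgroup.center G := by
  intro x hx
  refine Subgroup.mem_center_iff.2 fun g => ?_
  have := hn
  have hp := (Fact.out : p.Prime)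
  -- the fixed points of conjugation on `N` have cardinality a positive multiple of `p`
  have h1 : Nat.card (MulAction.fixedPoints (ConjAct G) N) ≡ Nat.card N [MOD p] :=
    ((hG.of_equiv ConjAct.toConjAct).card_modEq_card_fixedPoints N).symm
  have hne : (MulAction.fixedPoints (ConjAct G) N).Nonempty :=
    ⟨1, fun c => Subtype.ext (by simp [ConjAct.Subgroup.val_conj_smul, ConjAct.smul_def])⟩
  have h2 : p ≤ Nat.card (MulAction.fixedPoints (ConjAct G) N) := by
    refine Nat.le_of_dvd ?_ ?_
    · have := hne.to_subtype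
      exact Nat.card_pos
    · exact (Nat.modEq_zero_iff_dvd.1 (h1.trans (by rw [hN]; exact (Nat.modEq_zero_iff_dvd.2 dvd_rfl))))
  have h3 : MulAction.fixedPoints (ConjAct G) N = Set.univ := by
    refine Set.eq_of_subset_of_ncard_le (Set.subset_univ _) ?_ (Set.toFinite _)
    rw [Set.ncard_univ, ← Nat.card_coe_set_eq, hN]
    exact h2
  have h4 : (⟨x, hx⟩ : N) ∈ MulAction.fixedPoints (ConjAct G) N := h3 ▸ Set.mem_univ _
  have h5 := congrArg Subtype.val (h4 (ConjAct.toConjAct g))
  simp only [ConjAct.Subgroup.val_conj_smul, ConjAct.smul_def, ConjAct.ofConjAct_toConjAct] at h5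
  exact mul_inv_eq_iff_eq_mul.1 h5

theorem normal_of_index_eq {G : Type*} [Group G] [Finite G] {p : ℕ} [Fact p.Prime] (hG : IsPGroup p G)
    {H : Subgroup G} (hH : H.index = p) : H.Normal := by
  obtain ⟨n, hn⟩ := IsPGroup.iff_card.1 hG
  refine Subgroup.normal_of_index_eq_minFac_card ?_
  have hn0 : n ≠ 0 := fun h0 => by
    have h1 : p ∣ Nat.card G := hH ▸ H.index_dvd_card
    rw [hn, h0, pow_zero] at h1
    exact (Fact.out : p.Prime).not_dvd_one h1
  rw [hH, hn, Nat.pow_minFac hn0, (Fact.out : p.Prime).minFac_eq]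

end CfsgLib.FusionExtraspecial
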