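import Cfsg.Agent.Lib.Fusion.Normal
import Cfsg.Agent.Lib.FusionQuot.Criterion
import Mathlib.GroupTheory.Commutator.Basic

/-!
A saturated fusion system over a `p`-group (`p` odd) whose commutator subgroup has order `p` and is properly
contained in the centre has a nontrivial normal subgroup.
-/
set_option autoImplicit false

namespace CfsgLib.FusionExtraspecial

open Cfsg Cfsg.FusionSystem CfsgLib.Fusion CfsgLib.FusionQuot

variable {Ω : Type*} [Group Ω] {S : Subgroup Ω} {F : Cfsg.FusionSystem S} {p : ℕ}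

/-- The hypotheses on `S` and `Z`. -/
structure Setting (S Z : Subgroup Ω) (p : ℕ) : Prop where
  isPGroup : IsPGroup p S
  le : Z ≤ S
  card : Nat.card Z = p
  comm : ∀ g ∈ S, ∀ h ∈ S, g * h * g⁻¹ * h⁻¹ ∈ Z
  central : ∀ z ∈ Z, ∀ g ∈ S, g * z = z * g
  nonabelian : ∃ g ∈ S, ∃ h ∈ S, g * h ≠ h * g
  bigger : ¬ centralizerIn S S ≤ Z

section

variable {Z : Subgroup Ω}

theorem center_le (h : Setting S Z p) : Z ≤ centralizerIn S S := fun z hz =>
  ⟨h.le hz, Subgroup.mem_centralizer_iff.2 fun g hg => h.central z hz g hg⟩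

theorem center_le_centric {P : Subgroup Ω} (hP : F.IsCentric P) : centralizerIn S S ≤ P := fun _ hx =>
  centralizerIn_le_of_isCentric hP ⟨hx.1, Subgroup.centralizer_le hP.1 hx.2⟩

theorem normalizer_of_le (h : Setting S Z p) {P : Subgroup Ω} (hZP : Z ≤ P) (hPS : P ≤ S) :
    S ≤ Subgroup.normalizer (P : Set Ω) := by
  have key : ∀ g ∈ S, ∀ x ∈ P, g * x * g⁻¹ ∈ P := fun g hg x hx => by
    have := P.mul_mem (hZP (h.comm g hg x (hPS hx))) hx
    rwa [inv_mul_cancel_right] at this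
  intro g hg
  refine Subgroup.mem_normalizer_iff.2 fun x => ⟨key g hg x, fun hx => ?_⟩
  simpa [mul_assoc] using key g⁻¹ (S.inv_mem hg) _ hx

variable [Finite S]

theorem isFullyNormalized_of_le (h : Setting S Z p) {P : Subgroup Ω} (hZP : Z ≤ P) (hPS : P ≤ S) :
    F.IsFullyNormalized P := by
  refine ⟨hPS, fun Q _ => ?_⟩
  rw [show normalizerIn S P = S from inf_eq_left.2 (normalizer_of_le h hZP hPS)]
  exact Nat.card_le_card_of_injective _ (Subgroup.inclusion_injective (normalizerIn_le S Q))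

variable [Fact p.Prime]

theorem eq_of_mem_Z (h : Setting S Z p) {A : Subgroup Ω} {z : Ω} (hz : z ∈ Z) (hz1 : z ≠ 1) (hA : z ∈ A) :
    Z ≤ A := fun x hx => by
  have hm : (⟨x, hx⟩ : Z) ∈ Subgroup.zpowers (⟨z, hz⟩ : Z) := by
    have := mem_zpowers_of_prime_card (g := (⟨z, hz⟩ : Z)) (g' := ⟨x, hx⟩) h.card
      (fun hh => hz1 (congrArg Subtype.val hh))
    exact this
  obtain ⟨k, hk⟩ := hm
  have : z ^ k = x := congrArg Subtype.val hk
  exact this ▸ A.zpow_mem hA k

theorem exists_generator (h : Setting S Z p) : ∃ z ∈ Z, z ≠ 1 := by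
  by_contra hh
  push Not at hh
  have : Z = ⊥ := (Subgroup.eq_bot_iff_forall Z).2 hh
  have h1 := h.card
  rw [this, Subgroup.card_bot] at h1
  exact (Fact.out : p.Prime).one_lt.ne h1

/-- Two commuting `p`-elements of `Aut_F(P)` are conjugate into `Aut_S(P)` by one element. -/
theorem exists_conj_into (hS : IsPGroup p S) (hF : F.IsSaturated p) {P : Subgroup Ω}
    (hP : F.IsFullyNormalized P) {α β : MulAut P} (hα : α ∈ F.autGroup P) (hβ : β ∈ F.autGroup P)
    (hc : Commute α β) {i j : ℕ} (hαp : α ^ p ^ i = 1) (hβp : β ^ p ^ j = 1) :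
    ∃ m ∈ F.autGroup P, m * α * m⁻¹ ∈ autInducedBy S P ∧ m * β * m⁻¹ ∈ autInducedBy S P := by
  have : Finite P := finite_of_le hP.1
  have : Finite (MulAut P) := finite_mulAut
  obtain ⟨T, hT⟩ := (isFullyAutomized_of_isFullyNormalized hS hF hP).2
  let a : F.autGroup P := ⟨α, hα⟩
  let b : F.autGroup P := ⟨β, hβ⟩
  have hz : ∀ (c : F.autGroup P) (k : ℕ), c ^ p ^ k = 1 → IsPGroup p (Subgroup.zpowers c) := by
    rintro c k hc' ⟨_, l, rfl⟩
    refine ⟨k, Subtype.ext ?_⟩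
    show (c ^ l) ^ p ^ k = 1
    rw [← zpow_natCast, ← zpow_mul, mul_comm, zpow_mul, zpow_natCast, hc', one_zpow]
  have hp : IsPGroup p (Subgroup.zpowers a ⊔ Subgroup.zpowers b : Subgroup (F.autGroup P)) := by
    refine IsPGroup.to_sup_of_normal_right' (hz a i (Subtype.ext hαp)) (hz b j (Subtype.ext hβp)) ?_
    rw [Subgroup.zpowers_le]
    refine Subgroup.centralizer_le_normalizer _ (Subgroup.mem_centralizer_iff.2 ?_)
    rintro _ ⟨l, rfl⟩
    exact ((Subtype.ext hc.eq : a * b = b * a) |> fun e => (Commute.zpow_right (show Commute a b from e) l).eq.symm)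
  obtain ⟨m, hm⟩ := exists_conj_le_sylow T hp
  refine ⟨m, m.2, ?_, ?_⟩
  · have h1 := hm a (Subgroup.mem_sup_left (Subgroup.mem_zpowers a))
    rw [hT] at h1
    exact h1
  · have h1 := hm b (Subgroup.mem_sup_right (Subgroup.mem_zpowers b))
    rw [hT] at h1
    exact h1

theorem autInducedBy_pow (hS : IsPGroup p S) {P : Subgroup Ω} {α : MulAut P} (hα : α ∈ autInducedBy S P) :
    ∃ i : ℕ, α ^ p ^ i = 1 := by
  obtain ⟨i, hi⟩ := isPGroup_autInducedBy hS P ⟨α, hα⟩
  exact ⟨i, congrArg Subtype.val hi⟩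

/-- An automorphism of `S` whose restriction has `p`-power order fixes the centre. -/
theorem fix_center_of_pow (hS : IsPGroup p S) (hF : F.IsSaturated p) {γ : MulAut S}
    (hγ : γ ∈ F.autGroup S) : ∃ m : ℕ, ¬ p ∣ m ∧
      ∀ w : S, (w : Ω) ∈ centralizerIn S S → (γ ^ m) w = w := by
  have : Finite (MulAut S) := finite_mulAut
  obtain ⟨k, m, hm, hk⟩ := Nat.exists_eq_pow_mul_and_not_dvd (orderOf_pos γ).ne' p (Fact.out : p.Prime).ne_one
  refine ⟨m, hm, ?_⟩
  have hpw : (γ ^ m) ^ p ^ k = 1 := by rw [← pow_mul, mul_comm, ← hk, pow_orderOf_eq_one]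
  obtain ⟨T, hT⟩ := (isFullyAutomized_of_isFullyNormalized hS hF (isFullyNormalized_top F)).2
  let c : F.autGroup S := ⟨γ ^ m, Subgroup.pow_mem _ hγ m⟩
  have hpc : IsPGroup p (Subgroup.zpowers c) := by
    rintro ⟨_, l, rfl⟩
    refine ⟨k, Subtype.ext ?_⟩
    show (c ^ l) ^ p ^ k = 1
    rw [← zpow_natCast, ← zpow_mul, mul_comm, zpow_mul, zpow_natCast, show c ^ p ^ k = 1 from Subtype.ext hpw,
      one_zpow]
  obtain ⟨r, hr⟩ := exists_conj_le_sylow T hpc
  have h1 := hr c (Subgroup.mem_zpowers c)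
  rw [hT] at h1
  obtain ⟨g, hgN, hgS, hg⟩ := exists_eq_conjAut (show ((r * c * r⁻¹ : F.autGroup S) : MulAut S) ∈ autInducedBy S S from h1)
  intro w hw
  have hfix : ∀ u : S, (u : Ω) ∈ centralizerIn S S → conjAut S g hgN u = u := fun u hu => Subtype.ext (by
    rw [conjAut_apply, (Subgroup.mem_centralizer_iff.1 hu.2 g hgS), mul_inv_cancel_right])
  have hr1 : ((r : MulAut S) w : S) |> fun u => (u : Ω) ∈ centralizerIn S S := by
    refine ⟨((r : MulAut S) w).2, Subgroup.mem_centralizer_iff.2 fun g' hg' => ?_⟩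
    obtain ⟨u, hu⟩ := (r : MulAut S).surjective ⟨g', hg'⟩
    have e : u * w = w * u := Subtype.ext (Subgroup.mem_centralizer_iff.1 hw.2 u u.2)
    have := congrArg (fun v : S => (((r : MulAut S) v : S) : Ω)) e
    simpa [hu] using this
  have h2 := congrArg (fun f : MulAut S => f ((r : MulAut S) w)) hg
  simp only [Subgroup.coe_mul, Subgroup.coe_inv, MulAut.mul_apply, MulAut.inv_apply_self, hfix _ hr1] at h2
  exact (r : MulAut S).injective h2

end

variable [Finite S] [Fact p.Prime] {Z : Subgroup Ω}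

/-- A centric subgroup with an automorphism moving `Z` is abelian. -/
theorem abelian_of_moves (h : Setting S Z p) {P : Subgroup Ω} (hPc : F.IsCentric P) {χ : MulAut P}
    (hmov : ∃ z : P, (z : Ω) ∈ Z ∧ ((χ z : P) : Ω) ∉ Z) : ∀ x y : P, x * y = y * x := by
  intro x y
  by_contra hxy
  obtain ⟨z, hz, hzm⟩ := hmov
  apply hzm
  let K : Subgroup Ω := (Z.subgroupOf P).comap χ.toMonoidHom |>.map P.subtype
  have hc : ((x * y * x⁻¹ * y⁻¹ : P) : Ω) ∈ K := by
    refine ⟨x * y * x⁻¹ * y⁻¹, ?_, rfl⟩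
    show ((χ (x * y * x⁻¹ * y⁻¹) : P) : Ω) ∈ Z
    rw [map_mul, map_mul, map_mul, map_inv, map_inv]
    exact h.comm _ (hPc.1 (χ x).2) _ (hPc.1 (χ y).2)
  have hne : ((x * y * x⁻¹ * y⁻¹ : P) : Ω) ≠ 1 := fun hh => hxy (by
    have h1 : x * y * x⁻¹ * y⁻¹ = 1 := Subtype.ext hh
    rwa [mul_inv_eq_one, mul_inv_eq_iff_eq_mul] at h1)
  obtain ⟨u, hu, huz⟩ := eq_of_mem_Z h (h.comm _ (hPc.1 x.2) _ (hPc.1 y.2)) hne hc hz
  have e : u = z := Subtype.ext huz
  exact e ▸ hu

theorem disp (h : Setting S Z p) {P : Subgroup Ω} (hPS : P ≤ S) {g : Ω} (hg : g ∈ S)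
    (hgN : g ∈ Subgroup.normalizer (P : Set Ω)) (x : P) :
    ∃ d : P, (d : Ω) ∈ Z ∧ conjAut P g hgN x = x * d := by
  refine ⟨x⁻¹ * conjAut P g hgN x, ?_, by rw [mul_inv_cancel_left]⟩
  show (x : Ω)⁻¹ * (g * x * g⁻¹) ∈ Z
  have := h.comm _ (S.inv_mem (hPS x.2)) g hg
  rwa [inv_inv, mul_assoc, mul_assoc, ← mul_assoc g (x : Ω), ] at this

theorem conjAut_fix_Z (h : Setting S Z p) {P : Subgroup Ω} {g : Ω} (hg : g ∈ S)
    (hgN : g ∈ Subgroup.normalizer (P : Set Ω)) (x : P) (hx : (x : Ω) ∈ Z) : conjAut P g hgN x = x :=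
  Subtype.ext (by rw [conjAut_apply, h.central _ hx g hg, mul_inv_cancel_right])

/-- Displacements in subgroups fixed by each other give commuting automorphisms of an abelian group. -/
theorem commute_of_disp {P : Subgroup Ω} (hab : ∀ x y : P, x * y = y * x) {α β : MulAut P} {A B : P → Prop}
    (hα : ∀ x, ∃ a, A a ∧ α x = x * a) (hβ : ∀ x, ∃ b, B b ∧ β x = x * b) (hαB : ∀ b, B b → α b = b)
    (hβA : ∀ a, A a → β a = a) : Commute α β := by
  refine MulEquiv.ext fun x => ?_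
  obtain ⟨a, ha, hax⟩ := hα x
  obtain ⟨b, hb, hbx⟩ := hβ x
  show α (β x) = β (α x)
  rw [hbx, hax, map_mul, map_mul, hax, hbx, hαB b hb, hβA a ha, mul_assoc, mul_assoc, hab a b]

/-- The data at a centric subgroup whose automorphisms move `Z`. -/
theorem structure_of_moves (h : Setting S Z p) (hF : F.IsSaturated p) {P : Subgroup Ω} (hPc : F.IsCentric P)
    {χ : MulAut P} (hχ : χ ∈ F.autGroup P) {z : P} (hz : (z : Ω) ∈ Z) (hzm : ((χ z : P) : Ω) ∉ Z) :
    (∀ x y : P, x * y = y * x) ∧ (P.subgroupOf S).index = p ∧ ((χ z : P) : Ω) ∉ centralizerIn S S ∧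
      (∀ x : P, (x : Ω) ∉ centralizerIn S S → ∀ d ∈ Z, ∃ s ∈ S, s * (x : Ω) * s⁻¹ = x * d) := by
  classical
  have hab := abelian_of_moves h hPc ⟨z, hz, hzm⟩
  have hZP : Z ≤ P := (center_le h).trans (center_le_centric hPc)
  have hPS := hPc.1
  have hN := normalizer_of_le h hZP hPS
  have hfn : F.IsFullyNormalized P := isFullyNormalized_of_le h hZP hPS
  have hz1 : (z : Ω) ≠ 1 := fun hh => hzm (by
    have : z = 1 := Subtype.ext hh
    rw [this, map_one]
    exact Z.one_mem)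
  -- conjugation onto prescribed displacement
  have hsurj : ∀ x : P, (x : Ω) ∉ centralizerIn S S → ∀ d ∈ Z, ∃ s ∈ S, s * (x : Ω) * s⁻¹ = x * d := by
    intro x hx
    let K : Subgroup Ω :=
      { carrier := {d | d ∈ Z ∧ ∃ s ∈ S, s * (x : Ω) * s⁻¹ = x * d}
        one_mem' := ⟨Z.one_mem, 1, S.one_mem, by group⟩
        mul_mem' := by
          rintro d e ⟨hd, s, hs, hsd⟩ ⟨he, t, ht, hte⟩
          refine ⟨Z.mul_mem hd he, s * t, S.mul_mem hs ht, ?_⟩
          rw [show s * t * (x : Ω) * (s * t)⁻¹ = s * (t * x * t⁻¹) * s⁻¹ by group, hte,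
            show s * ((x : Ω) * e) * s⁻¹ = s * x * s⁻¹ * (s * e * s⁻¹) by group, hsd,
            h.central e he s hs, mul_inv_cancel_right, mul_assoc]
        inv_mem' := by
          rintro d ⟨hd, s, hs, hsd⟩
          refine ⟨Z.inv_mem hd, s⁻¹, S.inv_mem hs, ?_⟩
          have e1 : (x : Ω) = s⁻¹ * ((x : Ω) * d) * s := by rw [← hsd]; group
          have e2 : s⁻¹ * ((x : Ω) * d) * s = s⁻¹ * x * s * d := by
            rw [mul_assoc (s⁻¹) _ s, mul_assoc (x : Ω) d s, ← h.central d hd s hs]; group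
          rw [e2] at e1
          rw [inv_inv, eq_mul_inv_iff_mul_eq]
          exact e1.symm }
    obtain ⟨g, hg, hgx⟩ : ∃ g ∈ S, g * (x : Ω) ≠ x * g := by
      by_contra hh
      push Not at hh
      exact hx ⟨hPS x.2, Subgroup.mem_centralizer_iff.2 fun g hg => hh g hg⟩
    have hd : (x : Ω)⁻¹ * (g * x * g⁻¹) ∈ K := by
      refine ⟨?_, g, hg, by rw [mul_inv_cancel_left]⟩
      obtain ⟨d, hdZ, hdx⟩ := disp h hPS hg (hN hg) x
      have h2 := congrArg Subtype.val hdx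
      rw [conjAut_apply, Subgroup.coe_mul] at h2
      rw [h2, inv_mul_cancel_left]
      exact hdZ
    have hd1 : (x : Ω)⁻¹ * (g * x * g⁻¹) ≠ 1 := fun hh => hgx (by
      rw [inv_mul_eq_one, eq_mul_inv_iff_mul_eq] at hh
      exact hh.symm)
    intro d hdZ
    exact (eq_of_mem_Z h hd.1 hd1 hd hdZ).2
  -- a transvection with centre `Z` and one with centre `χ Z`
  have hb : ∀ {s : Ω} (hs : s ∈ S), χ * conjAut P s (hN hs) * χ⁻¹ ∈ F.autGroup P := fun hs =>
    Subgroup.mul_mem _ (Subgroup.mul_mem _ hχ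
      (autInducedBy_le_autGroup F hPS (conjAut_mem_autInducedBy hs (hN hs)))) (Subgroup.inv_mem _ hχ)
  have hbd : ∀ {s : Ω} (hs : s ∈ S) (x : P), ∃ d : P, ((χ⁻¹ d : P) : Ω) ∈ Z ∧
      (χ * conjAut P s (hN hs) * χ⁻¹) x = x * d := by
    intro s hs x
    obtain ⟨d, hd, hdx⟩ := disp h hPS hs (hN hs) (χ⁻¹ x)
    refine ⟨χ d, by rwa [MulAut.inv_apply_self], ?_⟩
    rw [MulAut.mul_apply, MulAut.mul_apply, hdx, map_mul, MulAut.apply_inv_self]
  have hZgen : ∀ d : P, (d : Ω) ∈ Z → ∃ k : ℤ, d = z ^ k := by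
    intro d hd
    obtain ⟨k, hk⟩ := eq_of_mem_Z h hz hz1 (Subgroup.mem_zpowers (z : Ω)) hd
    exact ⟨k, Subtype.ext (by rw [SubgroupClass.coe_zpow]; exact hk.symm)⟩
  have hnotboth : ¬ ((∃ s ∈ S, s ∉ P ∧ s * ((χ z : P) : Ω) = ((χ z : P) : Ω) * s) ∧
      (∃ t ∈ S, t ∉ P ∧ t * ((χ⁻¹ z : P) : Ω) = ((χ⁻¹ z : P) : Ω) * t)) := by
    rintro ⟨⟨s, hs, hsP, hsz⟩, ⟨t, ht, htP, htz⟩⟩
    set a := conjAut P s (hN hs) with hadef
    set b := χ * conjAut P t (hN ht) * χ⁻¹ with hbdef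
    have hne : ∀ {g : Ω} (hg : g ∈ S), g ∉ P → conjAut P g (hN hg) ≠ 1 := by
      intro g hg hgP hh
      refine hgP (centralizerIn_le_of_isCentric hPc ⟨hg, Subgroup.mem_centralizer_iff.2 fun x hx => ?_⟩)
      have := congrArg (fun f : MulAut P => ((f ⟨x, hx⟩ : P) : Ω)) hh
      simp only [conjAut_apply, MulAut.one_apply] at this
      exact (mul_inv_eq_iff_eq_mul.1 this).symm
    have haz : a (χ z) = χ z := Subtype.ext (by rw [hadef, conjAut_apply, hsz, mul_inv_cancel_right])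
    have htz' : conjAut P t (hN ht) (χ⁻¹ z) = χ⁻¹ z :=
      Subtype.ext (by rw [conjAut_apply, htz, mul_inv_cancel_right])
    have hbz : b z = z := by rw [hbdef, MulAut.mul_apply, MulAut.mul_apply, htz', MulAut.apply_inv_self]
    have hcomm : Commute a b := commute_of_disp hab (A := fun d : P => (d : Ω) ∈ Z)
        (B := fun d : P => ((χ⁻¹ d : P) : Ω) ∈ Z) (fun x => disp h hPS hs (hN hs) x) (hbd ht)
        (fun d hd => by
          obtain ⟨k, hk⟩ := hZgen _ hd
          have : d = (χ z) ^ k := by rw [← map_zpow, ← hk, MulAut.apply_inv_self]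
          rw [this, map_zpow, haz])
        (fun d hd => by
          obtain ⟨k, rfl⟩ := hZgen d hd
          rw [map_zpow, hbz])
    obtain ⟨i, hi⟩ := autInducedBy_pow h.isPGroup (conjAut_mem_autInducedBy (P := P) hs (hN hs))
    obtain ⟨j, hj⟩ := autInducedBy_pow h.isPGroup (conjAut_mem_autInducedBy (P := P) ht (hN ht))
    have hbj : b ^ p ^ j = 1 := by rw [hbdef, conj_pow, hj]; group
    obtain ⟨m, hm, hma, hmb⟩ := exists_conj_into h.isPGroup hF hfn
      (autInducedBy_le_autGroup F hPS (conjAut_mem_autInducedBy hs (hN hs))) (hb ht) hcomm hi hbj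
    have hmove : ∀ (f : MulAut P) (c : P), m * f * m⁻¹ ∈ autInducedBy S P → ∀ x, f x = x * c →
        ((m c : P) : Ω) ∈ Z := by
      intro f c hf x hfx
      obtain ⟨g, hgN, hgS, hge⟩ := exists_eq_conjAut hf
      obtain ⟨d, hd, hdx⟩ := disp h hPS hgS hgN (m x)
      have h1 := congrArg (fun F' : MulAut P => F' (m x)) hge
      simp only [MulAut.mul_apply, MulAut.inv_apply_self, hfx, map_mul, hdx] at h1
      rwa [mul_left_cancel h1]
    obtain ⟨x, hx⟩ : ∃ x, a x ≠ x := by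
      by_contra hh
      push Not at hh
      exact hne hs hsP (MulEquiv.ext hh)
    obtain ⟨da, hda, hdax⟩ := disp h hPS hs (hN hs) x
    have hda1 : da ≠ 1 := fun hh => hx (by rw [hadef, hdax, hh, mul_one])
    obtain ⟨y, hy⟩ : ∃ y, b y ≠ y := by
      by_contra hh
      push Not at hh
      refine hne ht htP ?_
      have h2 : b = 1 := MulEquiv.ext hh
      rwa [hbdef, conj_eq_one_iff] at h2
    obtain ⟨db, hdb, hdby⟩ := hbd ht y
    have hdb1 : db ≠ 1 := fun hh => hy (by rw [hdby, hh, mul_one])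
    have h1 := hmove a da hma x hdax
    have h2 := hmove b db hmb y hdby
    -- both centres go into `Z`, so they coincide
    let K : Subgroup Ω := (Z.subgroupOf P).comap m.toMonoidHom |>.map P.subtype
    have hzK : (z : Ω) ∈ K := eq_of_mem_Z h hda (fun hh => hda1 (Subtype.ext hh)) (Subgroup.mem_map.2 ⟨da, h1, rfl⟩) hz
    obtain ⟨k, hk⟩ := hZgen _ hdb
    have hk1 : db = (χ z) ^ k := by rw [← map_zpow, ← hk, MulAut.apply_inv_self]
    obtain ⟨u, hu, huz⟩ := hzK
    have hmz : ((m z : P) : Ω) ∈ Z := (Subtype.ext huz : u = z) ▸ hu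
    have hmzg : ∃ l : ℤ, m db = (m z) ^ l := by
      have hne' : ((m z : P) : Ω) ≠ 1 := fun hh => hz1 (by
        have : z = 1 := m.injective (by rw [map_one]; exact Subtype.ext hh)
        rw [this]; rfl)
      obtain ⟨l, hl⟩ := eq_of_mem_Z h hmz hne' (Subgroup.mem_zpowers ((m z : P) : Ω)) h2
      exact ⟨l, Subtype.ext (by rw [SubgroupClass.coe_zpow]; exact hl.symm)⟩
    obtain ⟨l, hl⟩ := hmzg
    rw [← map_zpow] at hl
    have hdbZ : (db : Ω) ∈ Z := by rw [m.injective hl, SubgroupClass.coe_zpow]; exact Z.zpow_mem hz l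
    let K2 : Subgroup Ω := (Z.subgroupOf P).comap χ.toMonoidHom |>.map P.subtype
    have hmem : ((χ⁻¹ db : P) : Ω) ∈ K2 := ⟨χ⁻¹ db, by
      show ((χ (χ⁻¹ db) : P) : Ω) ∈ Z
      rw [MulAut.apply_inv_self]; exact hdbZ, rfl⟩
    have hne2 : ((χ⁻¹ db : P) : Ω) ≠ 1 := fun hh => hdb1 (by
      have h3 := congrArg χ (Subtype.ext hh : χ⁻¹ db = 1)
      rwa [MulAut.apply_inv_self, map_one] at h3)
    obtain ⟨v, hv, hvz⟩ := eq_of_mem_Z h hdb hne2 hmem hz
    exact hzm ((Subtype.ext hvz : v = z) ▸ hv)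
  have hindex : (P.subgroupOf S).index = p := by
    have hp := (Fact.out : p.Prime)
    obtain ⟨u, hu⟩ : ∃ u : P, ∀ s ∈ S, s * (u : Ω) = (u : Ω) * s → s ∈ P := by
      by_contra hh
      push Not at hh
      obtain ⟨s, hs, hsz, hsP⟩ := hh (χ z)
      obtain ⟨t, ht, htz, htP⟩ := hh (χ⁻¹ z)
      exact hnotboth ⟨⟨s, hs, hsP, hsz⟩, ⟨t, ht, htP, htz⟩⟩
    let f : S →* Z :=
      { toFun := fun s => ⟨(s : Ω) * u * (s : Ω)⁻¹ * (u : Ω)⁻¹, h.comm _ s.2 _ (hPS u.2)⟩
        map_one' := Subtype.ext (by simp)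
        map_mul' := fun s t => Subtype.ext (by
          show ((s : Ω) * t) * u * ((s : Ω) * t)⁻¹ * (u : Ω)⁻¹ =
            ((s : Ω) * u * (s : Ω)⁻¹ * (u : Ω)⁻¹) * ((t : Ω) * u * (t : Ω)⁻¹ * (u : Ω)⁻¹)
          have hc := h.comm _ t.2 _ (hPS u.2)
          rw [h.central _ hc _ (S.mul_mem (S.mul_mem (S.mul_mem s.2 (hPS u.2)) (S.inv_mem s.2)) (S.inv_mem (hPS u.2)))]
          have e : ((t : Ω) * u * (t : Ω)⁻¹) = ((t : Ω) * u * (t : Ω)⁻¹ * (u : Ω)⁻¹) * u := by group
          calc ((s : Ω) * t) * u * ((s : Ω) * t)⁻¹ * (u : Ω)⁻¹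
              = (s : Ω) * ((t : Ω) * u * (t : Ω)⁻¹) * (s : Ω)⁻¹ * (u : Ω)⁻¹ := by group
            _ = (s : Ω) * (((t : Ω) * u * (t : Ω)⁻¹ * (u : Ω)⁻¹) * u) * (s : Ω)⁻¹ * (u : Ω)⁻¹ := by rw [← e]
            _ = ((s : Ω) * ((t : Ω) * u * (t : Ω)⁻¹ * (u : Ω)⁻¹)) * u * (s : Ω)⁻¹ * (u : Ω)⁻¹ := by group
            _ = (((t : Ω) * u * (t : Ω)⁻¹ * (u : Ω)⁻¹) * (s : Ω)) * u * (s : Ω)⁻¹ * (u : Ω)⁻¹ := by
              rw [h.central _ hc _ s.2]
            _ = _ := by group) }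
    have hker : f.ker = P.subgroupOf S := by
      ext s
      rw [MonoidHom.mem_ker, Subgroup.mem_subgroupOf]
      refine ⟨fun hh => hu s s.2 ?_, fun hh => Subtype.ext ?_⟩
      · exact mul_inv_eq_iff_eq_mul.1 (mul_inv_eq_one.1 (congrArg Subtype.val hh))
      · have := congrArg Subtype.val (hab ⟨s, hh⟩ u)
        show (s : Ω) * u * (s : Ω)⁻¹ * (u : Ω)⁻¹ = 1
        rw [show (s : Ω) * u = u * s from this]
        group
    have : Finite Z := finite_of_le h.le
    have hdvd : (P.subgroupOf S).index ∣ p := by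
      rw [← hker, Subgroup.index_ker, ← h.card]
      exact Subgroup.card_subgroup_dvd_card _
    refine (Nat.dvd_prime hp).1 hdvd |>.resolve_left fun h1 => ?_
    obtain ⟨g, hg, k, hk, hgk⟩ := h.nonabelian
    rw [Subgroup.index_eq_one, Subgroup.subgroupOf_eq_top] at h1
    exact hgk (congrArg Subtype.val (hab ⟨g, h1 hg⟩ ⟨k, h1 hk⟩))
  refine ⟨hab, hindex, fun hzW => ?_, hsurj⟩
  obtain ⟨s, hs, hsP⟩ : ∃ s ∈ S, s ∉ P := by
    by_contra hh
    push Not at hh
    rw [Subgroup.subgroupOf_eq_top.2 hh, Subgroup.index_top] at hindex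
    exact (Fact.out : p.Prime).one_lt.ne hindex
  -- all elements fix `χ z`, so none outside `P` fixes `χ⁻¹ z`
  have hz'' : ((χ⁻¹ z : P) : Ω) ∉ centralizerIn S S := fun hh => hnotboth
    ⟨⟨s, hs, hsP, Subgroup.mem_centralizer_iff.1 hzW.2 s hs⟩,
      ⟨s, hs, hsP, Subgroup.mem_centralizer_iff.1 hh.2 s hs⟩⟩
  obtain ⟨t, ht, htz⟩ := hsurj _ hz'' z hz
  set a := conjAut P t (hN ht) with hadef
  set b := χ * conjAut P t (hN ht) * χ⁻¹ with hbdef
  have hafix : ∀ c : P, ((χ⁻¹ c : P) : Ω) ∈ Z → a c = c := by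
    intro c hc
    obtain ⟨k, hk⟩ := hZgen _ hc
    have hcW : c = (χ z) ^ k := by rw [← map_zpow, ← hk, MulAut.apply_inv_self]
    rw [hcW, map_zpow, hadef, show conjAut P t (hN ht) (χ z) = χ z from Subtype.ext (by
      rw [conjAut_apply, Subgroup.mem_centralizer_iff.1 hzW.2 t ht, mul_inv_cancel_right])]
  have hbfix : ∀ c : P, ((χ⁻¹ c : P) : Ω) ∈ Z → b c = c := fun c hc => by
    rw [hbdef, MulAut.mul_apply, MulAut.mul_apply, conjAut_fix_Z h ht (hN ht) _ hc, MulAut.apply_inv_self]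
  have hbz : b z = z * χ z := by
    rw [hbdef, MulAut.mul_apply, MulAut.mul_apply,
      show conjAut P t (hN ht) (χ⁻¹ z) = χ⁻¹ z * z from Subtype.ext (by rw [conjAut_apply, htz, Subgroup.coe_mul]),
      map_mul, MulAut.apply_inv_self]
  set b' := a * b * a⁻¹ with hb'def
  have hb'd : ∀ x : P, ∃ d : P, ((χ⁻¹ d : P) : Ω) ∈ Z ∧ b' x = x * d := by
    intro x
    obtain ⟨d, hd, hdx⟩ := hbd ht (a⁻¹ x)
    refine ⟨d, hd, ?_⟩
    rw [hb'def, MulAut.mul_apply, MulAut.mul_apply, hdx, map_mul, MulAut.apply_inv_self, hafix d hd]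
  have hcomm : Commute b b' := commute_of_disp hab (A := fun d : P => ((χ⁻¹ d : P) : Ω) ∈ Z)
    (B := fun d : P => ((χ⁻¹ d : P) : Ω) ∈ Z) (hbd ht) hb'd hbfix (fun d hd => by
      rw [hb'def, MulAut.mul_apply, MulAut.mul_apply,
        show a⁻¹ d = d from (MulEquiv.symm_apply_eq a).2 (hafix d hd).symm, hbfix d hd, hafix d hd])
  have ha : a ∈ F.autGroup P := autInducedBy_le_autGroup F hPS (conjAut_mem_autInducedBy ht (hN ht))
  obtain ⟨i, hi⟩ := autInducedBy_pow h.isPGroup (conjAut_mem_autInducedBy (P := P) ht (hN ht))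
  have hbi : b ^ p ^ i = 1 := by rw [hbdef, conj_pow, hi]; group
  have hb'i : b' ^ p ^ i = 1 := by rw [hb'def, conj_pow, hbi]; group
  have hab' : a z = z := conjAut_fix_Z h ht (hN ht) z hz
  -- two commuting elements of order `p` lie in one cyclic group
  obtain ⟨m, hm, hmb, hmb'⟩ := exists_conj_into h.isPGroup hF hfn (hb ht)
    (Subgroup.mul_mem _ (Subgroup.mul_mem _ ha (hb ht)) (Subgroup.inv_mem _ ha)) hcomm hbi hb'i
  have hcyc : ∀ f f' : MulAut P, f ∈ autInducedBy S P → f' ∈ autInducedBy S P → f ≠ 1 →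
      ∃ k : ℤ, f' = f ^ k := by
    intro f f' hf hf' hne
    obtain ⟨g, hgN, hgS, rfl⟩ := exists_eq_conjAut hf
    obtain ⟨g', hgN', hgS', rfl⟩ := exists_eq_conjAut hf'
    have hgP : g ∉ P := fun hh => hne (MulEquiv.ext fun x => Subtype.ext (by
      rw [conjAut_apply, show g * (x : Ω) = x * g from congrArg Subtype.val (hab ⟨g, hh⟩ x),
        mul_inv_cancel_right]
      rfl))
    let U : Subgroup S := ((Subgroup.zpowers (conjAut P g hgN)).comap P.normalizerMonoidHom).comap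
      (Subgroup.inclusion hN)
    have hPU : P.subgroupOf S ≤ U := fun x hx => by
      refine Subgroup.mem_comap.2 (Subgroup.mem_comap.2 ?_)
      have : P.normalizerMonoidHom (Subgroup.inclusion hN x) = 1 := MulEquiv.ext fun y => Subtype.ext (by
        show (x : Ω) * y * (x : Ω)⁻¹ = y
        rw [show (x : Ω) * y = y * x from congrArg Subtype.val (hab ⟨x, hx⟩ y), mul_inv_cancel_right])
      rw [this]
      exact one_mem _
    have hgU : (⟨g, hgS⟩ : S) ∈ U := Subgroup.mem_zpowers _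
    have hUtop : U = ⊤ := by
      have h1 := Subgroup.relIndex_mul_index hPU
      rw [hindex] at h1
      rcases ((Fact.out : p.Prime).eq_one_or_self_of_dvd U.index ⟨_, (h1.symm.trans (mul_comm _ _))⟩) with h2 | h2
      · exact Subgroup.index_eq_one.1 h2
      · rw [h2] at h1
        have h3 : (P.subgroupOf S).relIndex U = 1 :=
          Nat.eq_of_mul_eq_mul_right (Fact.out : p.Prime).pos (h1.trans (one_mul p).symm)
        exact absurd ((Subgroup.relIndex_eq_one.1 h3) hgU) hgP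
    have h4 : (⟨g', hgS'⟩ : S) ∈ U := hUtop ▸ Subgroup.mem_top _
    obtain ⟨k, hk⟩ := Subgroup.mem_zpowers_iff.1 (Subgroup.mem_comap.1 (Subgroup.mem_comap.1 h4))
    exact ⟨k, hk.symm⟩
  have hb1 : b ≠ 1 := fun hh => hzm (by
    rw [hh, MulAut.one_apply] at hbz
    have h5 : χ z = 1 := left_eq_mul.1 hbz
    rw [h5]; exact Z.one_mem)
  obtain ⟨k, hk⟩ := hcyc _ _ hmb hmb' (fun hh => hb1 (conj_eq_one_iff.1 hh))
  rw [conj_zpow] at hk
  have hbk : b' = b ^ k := mul_left_cancel (mul_right_cancel hk)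
  have hb'z : b' z = b z := by
    rw [hb'def, MulAut.mul_apply, MulAut.mul_apply, show a⁻¹ z = z from (MulEquiv.symm_apply_eq a).2 hab'.symm,
      hbz, map_mul, hab', hafix (χ z) (by rwa [MulAut.inv_apply_self])]
  have hb'eq : b' = b := by
    have hzp : ∀ n : ℤ, (b ^ n) z = z * (χ z) ^ n := by
      intro n
      induction n with
      | zero => simp
      | succ n ih =>
        rw [add_comm, zpow_add, zpow_one, MulAut.mul_apply, ih, map_mul, hbz, map_zpow,
          hbfix (χ z) (by rwa [MulAut.inv_apply_self]), zpow_add, zpow_one, mul_assoc]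
      | pred n ih =>
        have hinv : b⁻¹ z = z * (χ z)⁻¹ := by
          refine (MulEquiv.symm_apply_eq b).2 ?_
          rw [map_mul, map_inv, hbz, hbfix (χ z) (by rwa [MulAut.inv_apply_self]), mul_inv_cancel_right]
        have hinv2 : b⁻¹ (χ z) = χ z :=
          (MulEquiv.symm_apply_eq b).2 (hbfix (χ z) (by rwa [MulAut.inv_apply_self])).symm
        rw [sub_eq_neg_add, zpow_add, zpow_neg_one, MulAut.mul_apply, ih, map_mul, map_zpow, hinv, hinv2,
          zpow_add, zpow_neg_one, mul_assoc]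
    have h5 := hzp k
    rw [← hbk, hb'z, hbz] at h5
    have h6 : (χ z) ^ (k - 1) = 1 := by
      rw [zpow_sub, zpow_one, ← mul_left_cancel h5, mul_inv_cancel]
    have hzord : (orderOf (χ z) : ℤ) ∣ k - 1 := orderOf_dvd_iff_zpow_eq_one.2 h6
    have hbp : b ^ orderOf (χ z) = 1 := by
      refine MulEquiv.ext fun x => ?_
      obtain ⟨d, hd, hdx⟩ := hbd ht x
      have : ∀ n : ℕ, (b ^ n) x = x * d ^ n := by
        intro n
        induction n with
        | zero => simp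
        | succ n ih =>
          rw [pow_succ', MulAut.mul_apply, ih, map_mul, map_pow, hdx, hbfix d hd, mul_assoc, ← pow_succ']
      obtain ⟨l, hl⟩ := hZgen _ hd
      have hdl : d = (χ z) ^ l := by rw [← map_zpow, ← hl, MulAut.apply_inv_self]
      rw [this, hdl, ← zpow_natCast, ← zpow_mul, mul_comm, zpow_mul, zpow_natCast, pow_orderOf_eq_one,
        one_zpow, mul_one, MulAut.one_apply]
    obtain ⟨c, hc⟩ := hzord
    rw [hbk, show k = (orderOf (χ z) : ℤ) * c + 1 by omega, zpow_add, zpow_mul, zpow_natCast, hbp, one_zpow,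
      one_mul, zpow_one]
  have hab2 : Commute a b := by
    have h7 := hb'eq
    rw [hb'def, mul_inv_eq_iff_eq_mul] at h7
    exact h7
  obtain ⟨r, hr, hra, hrb⟩ := exists_conj_into h.isPGroup hF hfn ha (hb ht) hab2 hi hbi
  have ha1 : a ≠ 1 := fun hh => by
    have h8 := congrArg (fun f : MulAut P => ((f (χ⁻¹ z) : P) : Ω)) hh
    simp only [hadef, conjAut_apply, MulAut.one_apply, htz] at h8
    rw [mul_eq_left] at h8
    exact hzm (by rw [show z = 1 from Subtype.ext h8, map_one]; exact Z.one_mem)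
  obtain ⟨k, hk⟩ := hcyc _ _ hra hrb (fun hh => ha1 (conj_eq_one_iff.1 hh))
  rw [conj_zpow] at hk
  have h9 : b = a ^ k := mul_left_cancel (mul_right_cancel hk)
  have h10 : (a ^ k) z = z :=
    (MulAction.stabilizer (MulAut P) z).zpow_mem (show a ∈ MulAction.stabilizer (MulAut P) z from hab') k
  rw [← h9, hbz, mul_eq_left] at h10
  exact hzm (by rw [h10]; exact Z.one_mem)

end CfsgLib.FusionExtraspecial
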