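import Cfsg.Agent.Lib.Extraspecial.Card
import Cfsg.Agent.Lib.Fusion.Normal
import Cfsg.Agent.Lib.FusionWeakNormal.Key
import Cfsg.Agent.Lib.LocalEven.StrongEmb

/-!
A proper subgroup of an extraspecial subgroup of index `p` is not essential.
-/

set_option autoImplicit false

namespace CfsgLib.FusionExtraspecial

open Cfsg Cfsg.FusionSystem CfsgLib.Fusion CfsgLib.FusionWeakNormal

variable {Ω : Type*} [Group Ω] {S : Subgroup Ω} {F : Cfsg.FusionSystem S} {p : ℕ}
variable {Z E : Subgroup Ω}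

/-- Two members of the stabilizer of the series `1 ≤ Z ≤ E` of an abelian group commute. -/
theorem commute_of_fix (hab : ∀ a b : E, a * b = b * a) {A B : Set E} {α β : MulAut E}
    (hα : ∀ a ∈ B, α a = a) (hβ : ∀ a ∈ A, β a = a) (hαd : ∀ w : E, w⁻¹ * α w ∈ A)
    (hβd : ∀ w : E, w⁻¹ * β w ∈ B) : Commute α β := by
  refine MulEquiv.ext fun w => ?_
  rw [MulAut.mul_apply, MulAut.mul_apply]
  conv_lhs => rw [← mul_inv_cancel_left w (β w), map_mul, hα _ (hβd w)]
  conv_rhs => rw [← mul_inv_cancel_left w (α w), map_mul, hβ _ (hαd w)]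
  rw [← mul_assoc, ← mul_assoc, hab (α w) w⁻¹, hab (β w) w⁻¹, mul_assoc, mul_assoc, hab (α w) (β w)]

theorem not_isEssential_below [Finite S] [Fact p.Prime] (hS : IsPGroup p S) {Q : Subgroup Ω}
    (hQS : Q ≤ S) (hQ : Cfsg.IsExtraspecial p ↥Q) (hcard : p ^ 3 < Nat.card Q)
    (hF : F.IsSaturated p) (hEQ : E ≤ Q) (hne : E ≠ Q) : ¬ F.IsEssential p E := by
  intro hE
  have hES : E ≤ S := hEQ.trans hQS
  have : Finite Q := finite_of_le hQS
  have : Finite E := finite_of_le hES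
  have : Finite (MulAut E) := finite_mulAut
  have hC : centralizerIn S E ≤ E := centralizerIn_le_of_isCentric hE.1
  have hrad := isRadical_of_isEssential hS hF hE
  obtain ⟨-, -, hn, EE, hEE⟩ := hE
  set Z : Subgroup Ω := (Subgroup.center Q).map Q.subtype with hZ
  have hZQ : ∀ z ∈ Z, z ∈ Q := by rintro _ ⟨z, -, rfl⟩; exact z.2
  have hZc : ∀ z ∈ Z, ∀ q ∈ Q, q * z = z * q := by
    rintro _ ⟨z, hz, rfl⟩ q hq
    exact congrArg Subtype.val (Subgroup.mem_center_iff.1 hz ⟨q, hq⟩)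
  have hZcard : Nat.card Z = p :=
    (Nat.card_congr (Subgroup.equivMapOfInjective _ _ Q.subtype_injective).toEquiv).symm.trans hQ.2
  have hcomm : ∀ a ∈ Q, ∀ b ∈ Q, a * b * a⁻¹ * b⁻¹ ∈ Z := fun a ha b hb =>
    ⟨_, CfsgLib.Extraspecial.commutatorElement_mem_center hQ ⟨a, ha⟩ ⟨b, hb⟩, rfl⟩
  have hZE : Z ≤ E := fun z hz => hC ⟨hQS (hZQ z hz), Subgroup.mem_centralizer_iff.2
    fun e he => hZc z hz e (hEQ he)⟩
  have hQN : Q ≤ Subgroup.normalizer (E : Set Ω) := by
    have key : ∀ q ∈ Q, ∀ e ∈ E, q * e * q⁻¹ ∈ E := fun q hq e he => by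
      have := E.mul_mem (hZE (hcomm q hq e (hEQ he))) he
      rwa [inv_mul_cancel_right] at this
    intro q hq
    refine Subgroup.mem_normalizer_iff.2 fun x => ⟨key q hq x, fun hx => ?_⟩
    simpa [mul_assoc] using key q⁻¹ (Q.inv_mem hq) _ hx
  set G := F.autGroup E with hG
  set L := stabSeries F Z E with hL
  have : Finite Z := finite_of_le (hZE.trans hES)
  have hLp : IsPGroup p L := isPGroup_stabSeries (hS.to_le (hZE.trans hES)) E
  have hLG : L ≤ G := fun l hl => hl.1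
  have hconjL : ∀ q (hq : q ∈ Q), conjAut E q (hQN hq) ∈ L := fun q hq => by
    refine ⟨autInducedBy_le_autGroup F hES (conjAut_mem_autInducedBy (hQS hq) _), fun w hw => ?_, fun w => ?_⟩
    · refine Subtype.ext ?_
      rw [conjAut_apply, hZc _ hw q hq, mul_inv_cancel_right]
    · rw [conjAut_apply]
      have := hcomm _ (Q.inv_mem (hEQ w.2)) _ hq
      simpa [mul_assoc] using this
  obtain ⟨q₀, hq₀, hq₀E⟩ := SetLike.exists_of_lt (lt_of_le_of_ne hEQ hne)
  -- some automorphism moves `Z`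
  obtain ⟨g, hg, z, hz, hgz⟩ : ∃ g ∈ G, ∃ z, ∃ hz : z ∈ Z, (g ⟨z, hZE hz⟩ : Ω) ∉ Z := by
    by_contra hall
    push Not at hall
    have hLn : (L.subgroupOf G).Normal := by
      refine ⟨fun l hl α => ?_⟩
      obtain ⟨hlG, hlZ, hlm⟩ : (l : MulAut E) ∈ L := hl
      show (α : MulAut E) * (l : MulAut E) * (α : MulAut E)⁻¹ ∈ L
      refine ⟨mul_mem (mul_mem α.2 hlG) (inv_mem α.2), fun w hw => ?_, fun w => ?_⟩
      · rw [MulAut.mul_apply, MulAut.mul_apply, hlZ _ (hall _ (inv_mem α.2) w hw), MulAut.apply_inv_self]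
      · set u := (α : MulAut E)⁻¹ w with hu
        have h1 := hall α α.2 _ (hlm u)
        have h2 : ((α : MulAut E) ⟨(u : Ω)⁻¹ * ((l : MulAut E) u : Ω), hZE (hlm u)⟩) =
            w⁻¹ * ((α : MulAut E) * (l : MulAut E) * (α : MulAut E)⁻¹) w := by
          rw [show (⟨_, hZE (hlm u)⟩ : E) = u⁻¹ * (l : MulAut E) u from Subtype.ext (by simp), map_mul, map_inv, hu,
            MulAut.apply_inv_self, MulAut.mul_apply, MulAut.mul_apply]
        rw [h2] at h1
        simpa using h1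
    have hmem := CfsgLib.Solvable.le_pCore hLn (IsPGroup.comap_subtype hLp)
      (show (⟨_, hLG (hconjL q₀ hq₀)⟩ : G) ∈ L.subgroupOf G from hconjL q₀ hq₀)
    exact hq₀E (mem_of_conjAut_mem_inn hC hES (hQS hq₀) (hQN hq₀) (hrad.2 ▸ ⟨_, hmem, rfl⟩))
  have hgen : ∀ {a : Ω}, a ∈ Z → a ≠ 1 → ∀ b ∈ Z, ∃ k : ℤ, a ^ k = b := by
    intro a ha ha1 b hb
    obtain ⟨k, hk⟩ : (⟨b, hb⟩ : Z) ∈ Subgroup.zpowers (⟨a, ha⟩ : Z) :=
      mem_zpowers_of_prime_card hZcard (fun hh => ha1 (congrArg Subtype.val hh))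
    exact ⟨k, congrArg Subtype.val hk⟩
  have hz1 : z ≠ 1 := by
    rintro rfl
    refine hgz ?_
    rw [show (⟨1, hZE hz⟩ : E) = 1 from rfl, map_one]
    exact Z.one_mem
  -- hence `E` is abelian
  have hab : ∀ a b : E, a * b = b * a := by
    intro a b
    by_contra hne'
    have hmem : ∀ a b : E, ((a * b * a⁻¹ * b⁻¹ : E) : Ω) ∈ Z := fun a b => hcomm _ (hEQ a.2) _ (hEQ b.2)
    have hc1 : a * b * a⁻¹ * b⁻¹ ≠ 1 := fun hh => hne' (by rwa [mul_inv_eq_one, mul_inv_eq_iff_eq_mul] at hh)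
    obtain ⟨k, hk⟩ := hgen (hmem a b) (fun hh => hc1 (Subtype.ext hh)) z hz
    refine hgz ?_
    rw [show (⟨z, hZE hz⟩ : E) = (a * b * a⁻¹ * b⁻¹) ^ k from Subtype.ext (by rw [SubgroupClass.coe_zpow, hk]), map_zpow,
      SubgroupClass.coe_zpow]
    refine Z.zpow_mem ?_ k
    rw [map_mul, map_mul, map_mul, map_inv, map_inv]
    exact hmem (g a) (g b)
  have hI : (Cfsg.Inn E).subgroupOf G = ⊥ := by
    refine (Subgroup.eq_bot_iff_forall _).2 fun x hx => ?_
    obtain ⟨u, hu⟩ : (x : MulAut E) ∈ Cfsg.Inn E := hx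
    refine Subtype.ext ?_
    rw [← hu]
    exact MulEquiv.ext fun w => by simp [hab u w]
  -- every element of `E` is centralised by some element of `Q` outside `E`
  have hcen : ∀ x : E, ∃ q ∈ Q, q ∉ E ∧ q * x = x * q := by
    intro x
    by_contra hh
    push Not at hh
    set K := (CfsgLib.Extraspecial.commCenterHom hQ ⟨x, hEQ x.2⟩).ker with hK
    have hKE : K ≤ E.subgroupOf Q := by
      intro q hq
      by_contra hqE
      exact hh q q.2 hqE (congrArg Subtype.val (commutatorElement_eq_one_iff_mul_comm.1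
        (congrArg Subtype.val (MonoidHom.mem_ker.1 hq)))).symm
    have hdvd : K.index ∣ p := by
      rw [hK, Subgroup.index_ker]
      exact (Subgroup.card_subgroup_dvd_card _).trans hQ.2.dvd
    rcases (Nat.dvd_prime (Fact.out : p.Prime)).1 ((Subgroup.index_dvd_of_le hKE).trans hdvd) with h1 | h1
    · exact hne (le_antisymm hEQ (Subgroup.subgroupOf_eq_top.1 (Subgroup.index_eq_one.1 h1)))
    · refine hcard.ne' (CfsgLib.Extraspecial.card_eq_of_abelian_index hQ (E.subgroupOf Q) (fun a ha b hb => ?_) h1)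
      exact Subtype.ext (congrArg Subtype.val (hab ⟨a, ha⟩ ⟨b, hb⟩) :)
  have hfix : ∀ x : E, ∃ l ∈ L, l ≠ 1 ∧ l x = x := by
    intro x
    obtain ⟨q, hq, hqE, hqx⟩ := hcen x
    refine ⟨_, hconjL q hq, fun h1 => hqE (hC ⟨hQS hq, Subgroup.mem_centralizer_iff.2 fun e he => ?_⟩), ?_⟩
    · have := congrArg (fun f : MulAut E => ((f ⟨e, he⟩ : E) : Ω)) h1
      simp only [conjAut_apply, MulAut.one_apply, mul_inv_eq_iff_eq_mul] at this
      exact this.symm
    · exact Subtype.ext (by rw [conjAut_apply, hqx, mul_inv_cancel_right])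
  -- a strongly embedded subgroup around the stabilizer
  obtain ⟨T, hT⟩ := (show IsPGroup p (L.subgroupOf G) from IsPGroup.comap_subtype hLp).exists_le_sylow
  set mk := QuotientGroup.mk' ((Cfsg.Inn E).subgroupOf G) with hmk
  obtain ⟨M', hM't, hM'⟩ := exists_proper_around_sylow
    (T.mapSurjective (f := mk) (QuotientGroup.mk'_surjective _)) hEE
  set M := M'.comap mk with hM
  have hMt : M ≠ ⊤ := fun h => hM't (by
    rw [← Subgroup.map_comap_eq_self_of_surjective (f := mk) (QuotientGroup.mk'_surjective _) M', ← hM, h,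
      Subgroup.map_top_of_surjective _ (QuotientGroup.mk'_surjective _)])
  have hUM : ∀ U : Subgroup G, U ≤ (T : Subgroup G) → U ≠ ⊥ → Subgroup.normalizer (U : Set G) ≤ M := by
    intro U hU hne'
    refine Subgroup.map_le_iff_le_comap.1 ((Subgroup.le_normalizer_map mk).trans
      (hM' _ (Subgroup.map_mono hU) fun h => hne' (le_bot_iff.1 ?_)))
    rw [← hI, ← QuotientGroup.ker_mk' ((Cfsg.Inn E).subgroupOf G)]
    exact (Subgroup.map_eq_bot_iff U).1 h
  obtain ⟨l₀, hl₀, hl₀1, -⟩ := hfix 1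
  have hLne : L.subgroupOf G ≠ ⊥ := fun h => hl₀1 (congrArg Subtype.val
    ((Subgroup.eq_bot_iff_forall _).1 h ⟨l₀, hLG hl₀⟩ hl₀))
  have hpd : p ∣ Nat.card G :=
    (CfsgLib.LocalEven.dvd_card_of_ne_bot (IsPGroup.comap_subtype hLp) hLne).trans
      (Subgroup.card_subgroup_dvd_card _)
  have hse : IsStronglyPEmbedded p M := ⟨hpd, hMt, T, CfsgLib.LocalEven.core_le hUM⟩
  have hLM : L.subgroupOf G ≤ M := hT.trans (Subgroup.le_normalizer.trans
    (hUM _ le_rfl fun h => hLne (le_bot_iff.1 (h ▸ hT))))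
  have hpel : ∀ a : G, IsPGroup p (Subgroup.zpowers a) → a ≠ 1 → a ∈ M →
      ∀ b, Commute a b → b ∈ M := by
    intro a ha ha1 haM b hb
    refine CfsgLib.Even.normalizer_le_of_stronglyPEmbedded hse ha (Subgroup.zpowers_le.2 haM)
      (Subgroup.zpowers_ne_bot.2 ha1) (CfsgLib.Fusion.centralizer_le_normalizer _ ?_)
    rw [Subgroup.mem_centralizer_iff]
    rintro _ ⟨k, rfl⟩
    exact (hb.zpow_left k).eq
  have hLab : ∀ l ∈ L, ∀ l' ∈ L, Commute l l' := by
    rintro l ⟨-, hlZ, hlm⟩ l' ⟨-, hl'Z, hl'm⟩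
    exact commute_of_fix hab (A := {a : E | (a : Ω) ∈ Z}) (B := {a : E | (a : Ω) ∈ Z}) hlZ hl'Z
      (fun w => by simpa using hlm w) (fun w => by simpa using hl'm w)
  -- all conjugates of the stabilizer lie in `M`
  have hall : ∀ (α : G) (l : G), (l : MulAut E) ∈ L → α * l * α⁻¹ ∈ M := by
    rintro α l hl
    by_cases hα : ((α : MulAut E) ⟨z, hZE hz⟩ : Ω) ∈ Z
    · refine hLM ?_
      show (α : MulAut E) * (l : MulAut E) * (α : MulAut E)⁻¹ ∈ L
      have hαZ : ∀ w : E, (w : Ω) ∈ Z → ((α : MulAut E) w : Ω) ∈ Z := by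
        intro w hw
        obtain ⟨k, hk⟩ := hgen hz hz1 _ hw
        rw [show w = ⟨z, hZE hz⟩ ^ k from Subtype.ext (by rw [SubgroupClass.coe_zpow, hk]), map_zpow, SubgroupClass.coe_zpow]
        exact Z.zpow_mem hα k
      have hαZ' : ∀ w : E, (w : Ω) ∈ Z → ((α : MulAut E)⁻¹ w : Ω) ∈ Z := by
        intro w hw
        have hα1 : ((α : MulAut E) ⟨z, hZE hz⟩ : Ω) ≠ 1 := fun h => hz1
          (congrArg Subtype.val ((MulEquiv.map_eq_one_iff _).1 (Subtype.ext h)) :)
        obtain ⟨k, hk⟩ := hgen hα hα1 _ hw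
        rw [show w = ((α : MulAut E) ⟨z, hZE hz⟩) ^ k from Subtype.ext (by rw [SubgroupClass.coe_zpow, hk]), ← map_zpow,
          MulAut.inv_apply_self, SubgroupClass.coe_zpow]
        exact Z.zpow_mem hz k
      obtain ⟨hlG, hlZ, hlm⟩ := hl
      refine ⟨mul_mem (mul_mem α.2 hlG) (inv_mem α.2), fun w hw => ?_, fun w => ?_⟩
      · rw [MulAut.mul_apply, MulAut.mul_apply, hlZ _ (hαZ' w hw), MulAut.apply_inv_self]
      · have h1 := hαZ (((α : MulAut E)⁻¹ w)⁻¹ * (l : MulAut E) ((α : MulAut E)⁻¹ w)) (by simpa using hlm _)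
        rw [map_mul, map_inv, MulAut.apply_inv_self] at h1
        simpa using h1
    · obtain ⟨a, ha, ha1, hax⟩ := hfix ((α : MulAut E) ⟨z, hZE hz⟩)
      obtain ⟨b, hb, hb1, hbx⟩ := hfix ((α : MulAut E)⁻¹ ⟨z, hZE hz⟩)
      set a' : G := α * ⟨b, hLG hb⟩ * α⁻¹ with ha'
      have hc : Commute (a : MulAut E) ((α : MulAut E) * b * (α : MulAut E)⁻¹) := by
        refine commute_of_fix hab
          (A := (Subgroup.zpowers (⟨z, hZE hz⟩ : E) : Set E))
          (B := (Subgroup.zpowers ((α : MulAut E) ⟨z, hZE hz⟩) : Set E)) ?_ ?_ (fun w => ?_) fun w => ?_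
        · rintro _ ⟨k, rfl⟩
          rw [map_zpow, hax]
        · rintro _ ⟨k, rfl⟩
          rw [map_zpow, MulAut.mul_apply, MulAut.mul_apply, hbx, MulAut.apply_inv_self]
        · obtain ⟨k, hk⟩ := hgen hz hz1 _ (ha.2.2 w)
          exact ⟨k, Subtype.ext (by simpa using hk)⟩
        · obtain ⟨k, hk⟩ := hgen hz hz1 _ (hb.2.2 ((α : MulAut E)⁻¹ w))
          refine ⟨k, ?_⟩
          show ((α : MulAut E) ⟨z, hZE hz⟩) ^ k = _
          rw [← map_zpow, show (⟨z, hZE hz⟩ : E) ^ k = ((α : MulAut E)⁻¹ w)⁻¹ * b ((α : MulAut E)⁻¹ w) from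
            Subtype.ext (by simpa using hk), map_mul, map_inv, MulAut.apply_inv_self, MulAut.mul_apply,
            MulAut.mul_apply]
      have hzp : ∀ (x : MulAut E) (hx : x ∈ L), IsPGroup p (Subgroup.zpowers (⟨x, hLG hx⟩ : G)) := fun x hx =>
        IsPGroup.to_le (IsPGroup.comap_subtype hLp) (Subgroup.zpowers_le.2 hx)
      have ha'M : a' ∈ M := hpel ⟨a, hLG ha⟩ (hzp a ha) (fun h => ha1 (congrArg Subtype.val h))
        (hLM ha) a' (Subtype.ext hc.eq)
      refine hpel a' ?_ (fun h => hb1 (congrArg Subtype.val (conj_eq_one_iff.1 h) :)) ha'M _ ?_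
      · have h1 := IsPGroup.map (hzp b hb) (MulAut.conj α).toMonoidHom
        rwa [MonoidHom.map_zpowers] at h1
      · exact (show Commute (⟨b, hLG hb⟩ : G) l from Subtype.ext (hLab b hb l hl).eq).map (MulAut.conj α)
  obtain ⟨y, -, hy⟩ := SetLike.exists_of_lt (lt_top_iff_ne_top.2 hMt)
  refine CfsgLib.LocalEven.se_trivial_intersection hse hy
    ((CfsgLib.LocalEven.dvd_card_of_ne_bot (IsPGroup.comap_subtype hLp) hLne).trans
      (Subgroup.card_dvd_of_le (le_inf hLM fun l hl => ?_)))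
  rw [CfsgLib.LocalEven.mem_cj]
  simpa using hall y⁻¹ l hl

end CfsgLib.FusionExtraspecial
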