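import Cfsg.Agent.Lib.FusionExtraspecial.Center
import Cfsg.Agent.Lib.FusionQuot.Joins

/-!
A saturated fusion system over a `p`-group (`p` odd) whose commutator subgroup has order `p` and is properly
contained in the centre has a nontrivial normal subgroup.
-/
set_option autoImplicit false

namespace CfsgLib.FusionExtraspecial

open Cfsg Cfsg.FusionSystem CfsgLib.Fusion CfsgLib.FusionQuot

variable {Ω : Type*} [Group Ω] {S : Subgroup Ω} {F : Cfsg.FusionSystem S} {p : ℕ} {Z : Subgroup Ω}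

/-- An automorphism of `P` carrying an element of `Z` outside `Z`. -/
def Moves (Z : Subgroup Ω) {P : Subgroup Ω} (χ : MulAut P) : Prop :=
  ∃ z : P, (z : Ω) ∈ Z ∧ ((χ z : P) : Ω) ∉ Z

/-- The part of the centre that stays central under `χ`. -/
def centralPart (S : Subgroup Ω) {P : Subgroup Ω} (χ : MulAut P) : Subgroup Ω :=
  centralizerIn S S ⊓ (((centralizerIn S S).subgroupOf P).map χ.toMonoidHom).map P.subtype

theorem mem_centralPart {P : Subgroup Ω} {χ : MulAut P} {x : Ω} (hx : x ∈ P) :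
    x ∈ centralPart S χ ↔ x ∈ centralizerIn S S ∧ ((χ⁻¹ ⟨x, hx⟩ : P) : Ω) ∈ centralizerIn S S := by
  constructor
  · rintro ⟨h1, y, ⟨u, hu, rfl⟩, huy⟩
    refine ⟨h1, ?_⟩
    have : χ u = ⟨x, hx⟩ := Subtype.ext huy
    rw [← this, MulAut.inv_apply_self]
    exact hu
  · rintro ⟨h1, h2⟩
    exact ⟨h1, _, ⟨χ⁻¹ ⟨x, hx⟩, h2, rfl⟩, congrArg Subtype.val (MulAut.apply_inv_self P χ ⟨x, hx⟩)⟩

variable [Finite S] [Fact p.Prime]

omit [Finite S] in
theorem mem_of_prime_index {P : Subgroup Ω} (hindex : (P.subgroupOf S).index = p) {U : Subgroup S}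
    (hPU : P.subgroupOf S ≤ U) {g : S} (hg : g ∈ U) (hgP : (g : Ω) ∉ P) (x : S) : x ∈ U := by
  have h1 := Subgroup.relIndex_mul_index hPU
  rw [hindex] at h1
  rcases ((Fact.out : p.Prime).eq_one_or_self_of_dvd U.index ⟨_, h1.symm.trans (mul_comm _ _)⟩) with h2 | h2
  · rw [Subgroup.index_eq_one.1 h2]
    trivial
  · rw [h2] at h1
    have h3 : (P.subgroupOf S).relIndex U = 1 :=
      Nat.eq_of_mul_eq_mul_right (Fact.out : p.Prime).pos (h1.trans (one_mul p).symm)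
    exact absurd ((Subgroup.relIndex_eq_one.1 h3) hg) hgP

/-- A moving automorphism yields an automorphism of `S` inverting `Z` and fixing the central part. -/
theorem exists_inversion (h : Setting S Z p) (hp : Odd p) (hF : F.IsSaturated p) {P : Subgroup Ω}
    (hPc : F.IsCentric P) {χ : MulAut P} (hχ : χ ∈ F.autGroup P) (hm : Moves Z χ) :
    centralPart S χ ⊓ Z = ⊥ ∧
      (∀ w ∈ centralizerIn S S, ∃ l ∈ centralPart S χ, ∃ y ∈ Z, w = l * y) ∧
      ∃ ψ ∈ F.autGroup S, (∀ l : S, (l : Ω) ∈ centralPart S χ → ψ l = l) ∧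
        ∀ y : S, (y : Ω) ∈ Z → ψ y = y⁻¹ := by
  classical
  obtain ⟨z, hz, hzm⟩ := hm
  obtain ⟨hab, hindex, hz'W, hsurj⟩ := structure_of_moves h hF hPc hχ hz hzm
  have hPS := hPc.1
  have hZP : Z ≤ P := (center_le h).trans (center_le_centric hPc)
  have hN := normalizer_of_le h hZP hPS
  let _ : CommGroup P := { (inferInstance : Group P) with mul_comm := hab }
  have hz1 : z ≠ 1 := fun hh => hzm (by rw [hh, map_one]; exact Z.one_mem)
  have hzgen : ∀ d : P, (d : Ω) ∈ Z → ∃ k : ℤ, d = z ^ k := fun d hd => by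
    obtain ⟨k, hk⟩ := eq_of_mem_Z h hz (fun hh => hz1 (Subtype.ext hh)) (Subgroup.mem_zpowers (z : Ω)) hd
    exact ⟨k, Subtype.ext (by rw [SubgroupClass.coe_zpow]; exact hk.symm)⟩
  have hz'' : ((χ⁻¹ z : P) : Ω) ∉ Z := fun hh => by
    obtain ⟨k, hk⟩ := hzgen _ hh
    have e : z = (χ z) ^ k := by rw [← map_zpow, ← hk, MulAut.apply_inv_self]
    have hne : ((χ⁻¹ z : P) : Ω) ≠ 1 := fun h0 => hz1 (by
      have := congrArg χ (Subtype.ext h0 : χ⁻¹ z = 1)
      rwa [MulAut.apply_inv_self, map_one] at this)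
    obtain ⟨l, hl⟩ := eq_of_mem_Z h hh hne (Subgroup.mem_zpowers _) hz
    have e2 : z = (χ⁻¹ z) ^ l := Subtype.ext (by rw [SubgroupClass.coe_zpow]; exact hl.symm)
    apply hzm
    rw [e2, map_zpow, MulAut.apply_inv_self, SubgroupClass.coe_zpow]
    exact Z.zpow_mem hz l
  obtain ⟨-, -, hz''W, -⟩ := structure_of_moves h hF hPc (Subgroup.inv_mem _ hχ) hz hz''
  obtain ⟨s, hs, hsz⟩ := hsurj _ hz'W z hz
  obtain ⟨t, ht, htz⟩ := hsurj _ hz''W z hz
  set a := conjAut P s (hN hs) with hadef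
  set b := χ * conjAut P t (hN ht) * χ⁻¹ with hbdef
  have ha : a ∈ F.autGroup P := autInducedBy_le_autGroup F hPS (conjAut_mem_autInducedBy hs (hN hs))
  have hb : b ∈ F.autGroup P := Subgroup.mul_mem _ (Subgroup.mul_mem _ hχ
    (autInducedBy_le_autGroup F hPS (conjAut_mem_autInducedBy ht (hN ht)))) (Subgroup.inv_mem _ hχ)
  set z' := χ z with hz'def
  have haz : a z = z := conjAut_fix_Z h hs (hN hs) z hz
  have haz' : a z' = z' * z := Subtype.ext (by rw [hadef, conjAut_apply, hsz, Subgroup.coe_mul])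
  have hbz' : b z' = z' := by
    rw [hbdef, MulAut.mul_apply, MulAut.mul_apply, hz'def, MulAut.inv_apply_self, conjAut_fix_Z h ht (hN ht) z hz]
  have hbz : b z = z * z' := by
    rw [hbdef, MulAut.mul_apply, MulAut.mul_apply,
      show conjAut P t (hN ht) (χ⁻¹ z) = χ⁻¹ z * z from Subtype.ext (by rw [conjAut_apply, htz, Subgroup.coe_mul]),
      map_mul, MulAut.apply_inv_self]
  have houtside : ∀ {g : Ω} (hg : g ∈ S) (x : P), g * (x : Ω) * g⁻¹ = x * z → g ∉ P := by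
    intro g hg x hgx hgP
    have := congrArg Subtype.val (hab ⟨g, hgP⟩ x)
    rw [show g * (x : Ω) = x * g from this, mul_inv_cancel_right, left_eq_mul] at hgx
    exact hz1 (Subtype.ext hgx)
  have hfix : ∀ {g : Ω} (hg : g ∈ S), g ∉ P → ∀ x : P, conjAut P g (hN hg) x = x →
      (x : Ω) ∈ centralizerIn S S := by
    intro g hg hgP x hx
    refine ⟨hPS x.2, Subgroup.mem_centralizer_iff.2 fun u hu => ?_⟩
    have hU := mem_of_prime_index hindex
      (U := (Subgroup.centralizer ({(x : Ω)} : Set Ω)).subgroupOf S) (fun v hv => ?_) (g := ⟨g, hg⟩) ?_ hgP ⟨u, hu⟩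
    · exact (Subgroup.mem_centralizer_singleton_iff.1 hU)
    · exact Subgroup.mem_centralizer_singleton_iff.2 (congrArg Subtype.val (hab ⟨v, hv⟩ x))
    · refine Subgroup.mem_centralizer_singleton_iff.2 ?_
      have := congrArg Subtype.val hx
      rw [conjAut_apply] at this
      exact mul_inv_eq_iff_eq_mul.1 this
  have hW : ∀ {g : Ω} (hg : g ∈ S) (x : P), (x : Ω) ∈ centralizerIn S S → conjAut P g (hN hg) x = x :=
    fun hg x hx => Subtype.ext (by
      rw [conjAut_apply, Subgroup.mem_centralizer_iff.1 hx.2 _ hg, mul_inv_cancel_right])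
  have hLiff : ∀ x : P, (x : Ω) ∈ centralPart S χ ↔ a x = x ∧ b x = x := by
    intro x
    rw [mem_centralPart x.2]
    refine ⟨fun ⟨h1, h2⟩ => ⟨hW hs x h1, ?_⟩, fun ⟨h1, h2⟩ => ⟨hfix hs (houtside hs _ hsz) x h1, ?_⟩⟩
    · rw [hbdef, MulAut.mul_apply, MulAut.mul_apply, hW ht _ h2, MulAut.apply_inv_self]
    · refine hfix ht (houtside ht _ htz) _ ?_
      have := congrArg (χ⁻¹ : MulAut P) h2
      rwa [hbdef, MulAut.mul_apply, MulAut.mul_apply, MulAut.inv_apply_self] at this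
  have hdec : ∀ x : P, ∃ l : P, ∃ i j : ℤ, (l : Ω) ∈ centralPart S χ ∧ x = l * z ^ j * z' ^ i := by
    intro x
    obtain ⟨d, hd, hdx⟩ := disp h hPS hs (hN hs) x
    obtain ⟨i, rfl⟩ := hzgen d hd
    change a x = x * z ^ i at hdx
    obtain ⟨e, he, hex⟩ := disp h hPS ht (hN ht) (χ⁻¹ (x * (z' ^ i)⁻¹))
    obtain ⟨j, rfl⟩ := hzgen e he
    have hbx : b (x * (z' ^ i)⁻¹) = x * (z' ^ i)⁻¹ * z' ^ j := by
      rw [hbdef, MulAut.mul_apply, MulAut.mul_apply, hex, map_mul, MulAut.apply_inv_self, map_zpow, hz'def]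
    refine ⟨x * (z' ^ i)⁻¹ * (z ^ j)⁻¹, i, j, (hLiff _).2 ⟨?_, ?_⟩, by rw [inv_mul_cancel_right, inv_mul_cancel_right]⟩
    · rw [map_mul, map_mul, map_inv, map_inv, map_zpow, map_zpow, hdx, haz, haz', mul_zpow, mul_inv,
        mul_comm (z' ^ i)⁻¹, ← mul_assoc, mul_inv_cancel_right]
    · rw [map_mul, hbx, map_inv, map_zpow, hbz, mul_zpow, mul_inv, mul_comm (z ^ j)⁻¹, ← mul_assoc,
        mul_inv_cancel_right]
  have hext : ∀ f f' : MulAut P, (∀ x : P, (x : Ω) ∈ centralPart S χ → f x = f' x) → f z = f' z → f z' = f' z' →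
      f = f' := by
    intro f f' hl h1 h2
    refine MulEquiv.ext fun x => ?_
    obtain ⟨l, i, j, hlL, rfl⟩ := hdec x
    rw [map_mul, map_mul, map_mul, map_mul, map_zpow, map_zpow, map_zpow, map_zpow, hl l hlL, h1, h2]
  set w := a * b⁻¹ * a with hwdef
  have hbiz' : b⁻¹ z' = z' := (MulEquiv.symm_apply_eq b).2 hbz'.symm
  have hbiz : b⁻¹ z = z * z'⁻¹ := (MulEquiv.symm_apply_eq b).2 (by
    rw [map_mul, map_inv, hbz, hbz', mul_inv_cancel_right])
  have hwz : w z = z'⁻¹ := by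
    rw [hwdef, MulAut.mul_apply, MulAut.mul_apply, haz, hbiz, map_mul, map_inv, haz, haz', mul_inv, mul_comm z,
      inv_mul_cancel_right]
  have hwz' : w z' = z := by
    rw [hwdef, MulAut.mul_apply, MulAut.mul_apply, haz', map_mul, hbiz, hbiz', mul_comm z, mul_inv_cancel_left]
    exact haz
  have hwl : ∀ x : P, (x : Ω) ∈ centralPart S χ → w x = x := fun x hx => by
    rw [hwdef, MulAut.mul_apply, MulAut.mul_apply, ((hLiff x).1 hx).1,
      show b⁻¹ x = x from (MulEquiv.symm_apply_eq b).2 ((hLiff x).1 hx).2.symm, ((hLiff x).1 hx).1]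
  obtain ⟨τ, hτdef⟩ : ∃ τ, τ = w * w := ⟨_, rfl⟩
  have hτ : τ ∈ F.autGroup P := by
    rw [hτdef]
    have : w ∈ F.autGroup P := Subgroup.mul_mem _ (Subgroup.mul_mem _ ha (Subgroup.inv_mem _ hb)) ha
    exact Subgroup.mul_mem _ this this
  have hτz : τ z = z⁻¹ := by rw [hτdef, MulAut.mul_apply, hwz, map_inv, hwz']
  have hτz' : τ z' = z'⁻¹ := by rw [hτdef, MulAut.mul_apply, hwz', hwz]
  have hτl : ∀ x : P, (x : Ω) ∈ centralPart S χ → τ x = x := fun x hx => by
    rw [hτdef, MulAut.mul_apply, hwl x hx, hwl x hx]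
  have hcomm : τ * a = a * τ := hext _ _
    (fun x hx => by rw [MulAut.mul_apply, MulAut.mul_apply, ((hLiff x).1 hx).1, hτl x hx, ((hLiff x).1 hx).1])
    (by rw [MulAut.mul_apply, MulAut.mul_apply, haz, hτz, map_inv, haz])
    (by rw [MulAut.mul_apply, MulAut.mul_apply, haz', hτz', map_mul, map_inv, hτz, hτz', haz', mul_inv])
  have hall : ∀ g : S, τ * conjAut P (g : Ω) (hN g.2) = conjAut P (g : Ω) (hN g.2) * τ := by
    intro g
    let c : S →* MulAut P := P.normalizerMonoidHom.comp (Subgroup.inclusion hN)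
    have hc : ∀ u : S, c u = conjAut P (u : Ω) (hN u.2) := fun u => rfl
    have := mem_of_prime_index hindex (U := (Subgroup.centralizer ({τ} : Set (MulAut P))).comap c) (fun v hv => ?_)
      (g := ⟨s, hs⟩) ?_ (houtside hs _ hsz) g
    · exact (Subgroup.mem_centralizer_singleton_iff.1 this).symm
    · have : c v = 1 := MulEquiv.ext fun y => Subtype.ext (by
        rw [hc, conjAut_apply, show (v : Ω) * (y : Ω) = y * v from congrArg Subtype.val (hab ⟨v, hv⟩ y),
          mul_inv_cancel_right]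
        rfl)
      rw [Subgroup.mem_comap, this]
      exact one_mem _
    · exact Subgroup.mem_centralizer_singleton_iff.2 hcomm.symm
  have hiso : IsFIso F (τ : P ≃* P) := (mem_autGroup_iff_hom hPS).1 hτ
  obtain ⟨ψ₀, hψ₀, -, hag⟩ := hiso.exists_extension
    (isReceptive_of_isFullyNormalized h.isPGroup hF (isFullyNormalized_of_le h hZP hPS)) hPS
    (fun g hg => (⟨hg, hN hg⟩ : g ∈ normalizerIn S P)) (fun g hg => by
      have e : MulAut.congr (τ : P ≃* P) (conjAut P g (hN hg)) = conjAut P g (hN hg) := by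
        refine MulEquiv.ext fun x => ?_
        show τ (conjAut P g (hN hg) (τ⁻¹ x)) = conjAut P g (hN hg) x
        have h5 := congrArg (fun f : MulAut P => f (τ⁻¹ x)) (hall ⟨g, hg⟩)
        simpa only [MulAut.mul_apply, MulAut.apply_inv_self] using h5
      rw [e]
      exact conjAut_mem_autInducedBy hg (hN hg))
  have hrange : ψ₀.range = S := range_eq_of_le (hom_inj hψ₀) fun x => map_mem hψ₀ x
  let ψ : MulAut S := isoOfInjective (hom_inj hψ₀) hrange
  have hψ : ψ ∈ F.autGroup S := (mem_autGroup_iff_hom le_rfl).2 (isFIso_isoOfInjective hψ₀ hrange)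
  have hψapp : ∀ (u : S) (hu : (u : Ω) ∈ P), ((ψ u : S) : Ω) = τ ⟨u, hu⟩ := fun u hu => hag ⟨u, hu⟩
  refine ⟨?_, ?_, ψ, hψ, fun l hl => Subtype.ext ?_, fun y hy => Subtype.ext ?_⟩
  · rw [Subgroup.eq_bot_iff_forall]
    rintro x ⟨hxL, hxZ⟩
    obtain ⟨k, hk⟩ := hzgen ⟨x, hZP hxZ⟩ hxZ
    have h1 := ((hLiff ⟨x, hZP hxZ⟩).1 hxL).2
    rw [hk, map_zpow, hbz, mul_zpow, mul_eq_left] at h1
    have h2 : (⟨x, hZP hxZ⟩ : P) = 1 := by rw [hk]; exact χ.injective (by rw [map_zpow, map_one]; exact h1)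
    exact congrArg Subtype.val h2
  · intro x hx
    obtain ⟨l, i, j, hl, hxe⟩ := hdec ⟨x, center_le_centric hPc hx⟩
    have hzi : z ^ i = 1 := by
      have h1 := hW hs _ (show ((⟨x, center_le_centric hPc hx⟩ : P) : Ω) ∈ centralizerIn S S from hx)
      change a _ = _ at h1
      rw [hxe, map_mul, map_mul, map_zpow, map_zpow, ((hLiff l).1 hl).1, haz, haz', mul_zpow, ← mul_assoc,
        mul_eq_left] at h1
      exact h1
    have hz'i : z' ^ i = 1 := by rw [hz'def, ← map_zpow, hzi, map_one]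
    refine ⟨l, hl, (z : Ω) ^ j, Z.zpow_mem hz j, ?_⟩
    have := congrArg Subtype.val hxe
    rw [hz'i, mul_one, Subgroup.coe_mul, SubgroupClass.coe_zpow] at this
    exact this
  · have hlP := center_le_centric hPc (show (l : Ω) ∈ centralizerIn S S from hl.1)
    rw [hψapp l hlP, hτl ⟨l, hlP⟩ hl]
  · rw [hψapp y (hZP hy)]
    obtain ⟨k, hk⟩ := hzgen ⟨y, hZP hy⟩ hy
    rw [hk, map_zpow, hτz, inv_zpow, ← hk]
    rfl

/-- The centre is invariant under every automorphism of `S`. -/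
theorem map_centre {η : MulAut S} {w : S} (hw : (w : Ω) ∈ centralizerIn S S) :
    ((η w : S) : Ω) ∈ centralizerIn S S := by
  refine ⟨(η w).2, Subgroup.mem_centralizer_iff.2 fun g hg => ?_⟩
  obtain ⟨u, hu⟩ := η.surjective ⟨g, hg⟩
  have e : u * w = w * u := Subtype.ext (Subgroup.mem_centralizer_iff.1 hw.2 u u.2)
  have := congrArg (fun v : S => ((η v : S) : Ω)) e
  simpa [hu] using this

/-- `Z` is invariant under every automorphism of `S`. -/
theorem map_Z (h : Setting S Z p) {η : MulAut S} {y : S} (hy : (y : Ω) ∈ Z) : ((η y : S) : Ω) ∈ Z := by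
  obtain ⟨g, hg, k, hk, hgk⟩ := h.nonabelian
  let c : S := ⟨g, hg⟩ * ⟨k, hk⟩ * ⟨g, hg⟩⁻¹ * ⟨k, hk⟩⁻¹
  let A : Subgroup Ω := ((Z.subgroupOf S).comap η.toMonoidHom).map S.subtype
  have hcA : (c : Ω) ∈ A := by
    refine ⟨c, ?_, rfl⟩
    show ((η c : S) : Ω) ∈ Z
    simp only [c, map_mul, map_inv]
    exact h.comm _ (η _).2 _ (η _).2
  have hc1 : (c : Ω) ≠ 1 := fun hh => hgk (by
    have h1 : g * k * g⁻¹ * k⁻¹ = 1 := hh
    rwa [mul_inv_eq_one, mul_inv_eq_iff_eq_mul] at h1)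
  obtain ⟨u, hu, huy⟩ := eq_of_mem_Z h (h.comm g hg k hk) hc1 hcA hy
  exact (Subtype.ext huy : u = y) ▸ hu

omit [Finite S] in
theorem eq_one_of_pow (h : Setting S Z p) {u : S} (hu : (u : Ω) ∈ Z) {m : ℕ} (hm : ¬ p ∣ m) (hum : u ^ m = 1) :
    u = 1 := by
  have h1 : u ^ p = 1 := by
    have h2 := pow_card_eq_one' (x := (⟨(u : Ω), hu⟩ : Z))
    rw [h.card] at h2
    exact Subtype.ext (by rw [SubgroupClass.coe_pow]; simpa using congrArg Subtype.val h2)
  rw [← orderOf_eq_one_iff]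
  rcases (Nat.dvd_prime (Fact.out : p.Prime)).1 (orderOf_dvd_of_pow_eq_one h1) with h3 | h3
  · exact h3
  · exact absurd (h3 ▸ orderOf_dvd_of_pow_eq_one hum) hm

omit [Finite S] in
theorem eq_one_of_sq (h : Setting S Z p) (hp : Odd p) {u : S} (hu : (u : Ω) ∈ Z) (hu2 : u * u = 1) : u = 1 :=
  eq_one_of_pow h hu (m := 2) (fun hd => by
    rw [(Nat.prime_dvd_prime_iff_eq Fact.out Nat.prime_two).1 hd] at hp
    exact absurd hp (by decide)) (by rw [pow_two, hu2])

/-- The central part is invariant under the automorphisms of `S`. -/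
theorem map_centralPart (h : Setting S Z p) (hp : Odd p) (hF : F.IsSaturated p) {P : Subgroup Ω}
    (hPc : F.IsCentric P) {χ : MulAut P} (hχ : χ ∈ F.autGroup P) (hm : Moves Z χ) {η : MulAut S}
    (hη : η ∈ F.autGroup S) {l : S} (hl : (l : Ω) ∈ centralPart S χ) : ((η l : S) : Ω) ∈ centralPart S χ := by
  obtain ⟨-, hdec, ψ, hψ, hψl, hψy⟩ := exists_inversion h hp hF hPc hχ hm
  have hlW : (l : Ω) ∈ centralizerIn S S := hl.1
  obtain ⟨l', hl', y', hy', he⟩ := hdec _ (map_centre (η := η) hlW)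
  let L : S := ⟨l', hl'.1.1⟩
  let y : S := ⟨y', h.le hy'⟩
  have he' : η l = L * y := Subtype.ext he
  set γ := ψ * η * ψ⁻¹ * η⁻¹ with hγdef
  have hγ : γ ∈ F.autGroup S :=
    Subgroup.mul_mem _ (Subgroup.mul_mem _ (Subgroup.mul_mem _ hψ hη) (Subgroup.inv_mem _ hψ)) (Subgroup.inv_mem _ hη)
  have hψi : ∀ v : S, (v : Ω) ∈ Z → ψ⁻¹ v = v⁻¹ := fun v hv => (MulEquiv.symm_apply_eq ψ).2
    (by rw [map_inv, hψy v hv, inv_inv])
  have hγy : γ y = y := by
    have h1 : ((η⁻¹ y : S) : Ω) ∈ Z := map_Z h hy'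
    rw [hγdef, MulAut.mul_apply, MulAut.mul_apply, MulAut.mul_apply, hψi _ h1, map_inv, MulAut.apply_inv_self,
      map_inv, hψy y hy', inv_inv]
  have hγu : γ (L * y) = L * y * (y⁻¹ * y⁻¹) := by
    rw [hγdef, MulAut.mul_apply, MulAut.mul_apply, MulAut.mul_apply, ← he', MulAut.inv_apply_self,
      show ψ⁻¹ l = l from (MulEquiv.symm_apply_eq ψ).2 (hψl l hl).symm, he', map_mul, hψl L hl', hψy y hy',
      mul_assoc, mul_inv_cancel_left]
  obtain ⟨m, hm', hfix⟩ := fix_center_of_pow h.isPGroup hF hγ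
  have hpow : ∀ n : ℕ, (γ ^ n) (L * y) = L * y * (y⁻¹ * y⁻¹) ^ n := by
    intro n
    induction n with
    | zero => simp
    | succ n ih =>
      rw [pow_succ' γ, MulAut.mul_apply, ih, map_mul, map_pow, hγu, map_mul, map_inv, hγy, mul_assoc, ← pow_succ']
  have h2 := hfix (L * y) (he' ▸ map_centre hlW)
  rw [hpow, mul_eq_left] at h2
  have hyy : ((y⁻¹ * y⁻¹ : S) : Ω) ∈ Z := Z.mul_mem (Z.inv_mem hy') (Z.inv_mem hy')
  have h3 := eq_one_of_sq h hp (u := y⁻¹) (Z.inv_mem hy') (eq_one_of_pow h hyy hm' h2)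
  rw [inv_eq_one] at h3
  rw [he', h3, mul_one]
  exact hl'

/-- The central part does not depend on the moving automorphism. -/
theorem centralPart_le (h : Setting S Z p) (hp : Odd p) (hF : F.IsSaturated p) {P P' : Subgroup Ω}
    (hPc : F.IsCentric P) (hPc' : F.IsCentric P') {χ : MulAut P} (hχ : χ ∈ F.autGroup P) (hm : Moves Z χ)
    {χ' : MulAut P'} (hχ' : χ' ∈ F.autGroup P') (hm' : Moves Z χ') : centralPart S χ ≤ centralPart S χ' := by
  obtain ⟨hbot, -, -⟩ := exists_inversion h hp hF hPc hχ hm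
  obtain ⟨-, hdec, ψ, hψ, hψl, hψy⟩ := exists_inversion h hp hF hPc' hχ' hm'
  intro x hx
  obtain ⟨l', hl', y', hy', rfl⟩ := hdec x hx.1
  let L : S := ⟨l', hl'.1.1⟩
  let y : S := ⟨y', h.le hy'⟩
  have h1 := map_centralPart h hp hF hPc hχ hm hψ (l := L * y) hx
  rw [map_mul, hψl L hl', hψy y hy'] at h1
  have h2 : ((y * y : S) : Ω) ∈ centralPart S χ := by
    have := (centralPart S χ).mul_mem ((centralPart S χ).inv_mem h1) (show ((L * y : S) : Ω) ∈ centralPart S χ from hx)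
    simpa [mul_assoc] using this
  have h3 : y * y = 1 := Subtype.ext (by
    have : ((y * y : S) : Ω) ∈ centralPart S χ ⊓ Z := ⟨h2, Z.mul_mem hy' hy'⟩
    rwa [hbot, Subgroup.mem_bot] at this)
  have h4 : y' = 1 := congrArg Subtype.val (eq_one_of_sq h hp hy' h3)
  rw [h4, mul_one]
  exact hl'

/-- The inverse of a moving automorphism is moving. -/
theorem Moves.inv (h : Setting S Z p) {P : Subgroup Ω} {β : MulAut P} (hβ : Moves Z β) : Moves Z β⁻¹ := by
  obtain ⟨z, hz, hzm⟩ := hβ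
  by_contra hh
  have hall' : ∀ u : P, (u : Ω) ∈ Z → ((β⁻¹ u : P) : Ω) ∈ Z := fun u hu => by
    by_contra h'
    exact hh ⟨u, hu, h'⟩
  have hz1 : (z : Ω) ≠ 1 := fun h0 => hzm (by rw [show z = 1 from Subtype.ext h0, map_one]; exact Z.one_mem)
  have hne : ((β⁻¹ z : P) : Ω) ≠ 1 := fun h0 => hz1 (by
    have := congrArg β (Subtype.ext h0 : β⁻¹ z = 1)
    rw [MulAut.apply_inv_self, map_one] at this
    rw [this]; rfl)
  obtain ⟨k, hk⟩ := eq_of_mem_Z h (hall' z hz) hne (Subgroup.mem_zpowers _) hz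
  have e : z = (β⁻¹ z) ^ k := Subtype.ext (by rw [SubgroupClass.coe_zpow]; exact hk.symm)
  apply hzm
  rw [e, map_zpow, MulAut.apply_inv_self, SubgroupClass.coe_zpow]
  exact Z.zpow_mem hz k

/-- A centric radical subgroup without moving automorphisms is all of `S`. -/
theorem eq_top_of_fixed (h : Setting S Z p) {P : Subgroup Ω} (hPc : F.IsCentric P)
    (hPr : F.IsRadical p P) (hnm : ∀ χ ∈ F.autGroup P, ¬ Moves Z χ) : P = S := by
  have hPS := hPc.1
  have hZP : Z ≤ P := (center_le h).trans (center_le_centric hPc)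
  have hN := normalizer_of_le h hZP hPS
  let K : Subgroup (F.autGroup P) :=
    { carrier := {α | (∀ x : P, (x : Ω) ∈ Z → (α : MulAut P) x = x) ∧
        ∀ x : P, ∃ d : P, (d : Ω) ∈ Z ∧ (α : MulAut P) x = x * d}
      one_mem' := ⟨fun _ _ => rfl, fun x => ⟨1, Z.one_mem, (mul_one x).symm⟩⟩
      mul_mem' := by
        rintro α β ⟨hα, hα'⟩ ⟨hβ, hβ'⟩
        refine ⟨fun x hx => by rw [Subgroup.coe_mul, MulAut.mul_apply, hβ x hx, hα x hx], fun x => ?_⟩
        obtain ⟨d, hd, hdx⟩ := hβ' x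
        obtain ⟨e, he, hex⟩ := hα' x
        refine ⟨e * d, Z.mul_mem he hd, ?_⟩
        rw [Subgroup.coe_mul, MulAut.mul_apply, hdx, map_mul, hex, hα d hd, mul_assoc]
      inv_mem' := by
        rintro α ⟨hα, hα'⟩
        refine ⟨fun x hx => ?_, fun x => ?_⟩
        · rw [Subgroup.coe_inv]
          exact (MulEquiv.symm_apply_eq _).2 (hα x hx).symm
        · obtain ⟨d, hd, hdx⟩ := hα' x
          refine ⟨d⁻¹, Z.inv_mem hd, ?_⟩
          rw [Subgroup.coe_inv]
          refine (MulEquiv.symm_apply_eq _).2 ?_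
          rw [map_mul, map_inv, hα d hd, hdx, mul_inv_cancel_right] }
  have hmap : ∀ (β : F.autGroup P) (x : P), (x : Ω) ∈ Z → (((β : MulAut P) x : P) : Ω) ∈ Z := fun β x hx => by
    by_contra hh
    exact hnm _ β.2 ⟨x, hx, hh⟩
  have hKn : K.Normal := by
    refine ⟨fun α ⟨hα, hα'⟩ β => ⟨fun x hx => ?_, fun x => ?_⟩⟩
    · rw [Subgroup.coe_mul, Subgroup.coe_mul, MulAut.mul_apply, MulAut.mul_apply, hα _ (hmap β⁻¹ x hx),
        Subgroup.coe_inv, MulAut.apply_inv_self]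
    · obtain ⟨d, hd, hdx⟩ := hα' ((β⁻¹ : F.autGroup P).1 x)
      refine ⟨(β : MulAut P) d, hmap β d hd, ?_⟩
      rw [Subgroup.coe_mul, Subgroup.coe_mul, MulAut.mul_apply, MulAut.mul_apply, hdx, map_mul, Subgroup.coe_inv,
        MulAut.apply_inv_self]
  have hKp : IsPGroup p K := by
    rintro ⟨α, hα, hα'⟩
    refine ⟨1, Subtype.ext (Subtype.ext (MulEquiv.ext fun x => ?_))⟩
    obtain ⟨d, hd, hdx⟩ := hα' x
    have hn : ∀ n : ℕ, ((α : MulAut P) ^ n) x = x * d ^ n := by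
      intro n
      induction n with
      | zero => simp
      | succ n ih =>
        rw [pow_succ' (α : MulAut P), MulAut.mul_apply, ih, map_mul, map_pow, hdx, hα d hd, mul_assoc, ← pow_succ']
    have hdp : d ^ p = 1 := by
      have h2 := pow_card_eq_one' (x := (⟨(d : Ω), hd⟩ : Z))
      rw [h.card] at h2
      exact Subtype.ext (by rw [SubgroupClass.coe_pow]; simpa using congrArg Subtype.val h2)
    rw [pow_one]
    show ((α : MulAut P) ^ p) x = x
    rw [hn, hdp, mul_one]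
  refine le_antisymm hPS fun g hg => ?_
  have hgK : (⟨_, autInducedBy_le_autGroup F hPS (conjAut_mem_autInducedBy hg (hN hg))⟩ : F.autGroup P) ∈ K :=
    ⟨fun x hx => conjAut_fix_Z h hg (hN hg) x hx, fun x => disp h hPS hg (hN hg) x⟩
  have hmem : conjAut P g (hN hg) ∈ Cfsg.Inn P := hPr.2 ▸ Subgroup.mem_map_of_mem (F.autGroup P).subtype
    (CfsgLib.Solvable.le_pCore hKn hKp hgK)
  obtain ⟨u, hu⟩ := hmem
  have hc : (u : Ω)⁻¹ * g ∈ centralizerIn S P := by
    refine ⟨S.mul_mem (S.inv_mem (hPS u.2)) hg, Subgroup.mem_centralizer_iff.2 fun x hx => ?_⟩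
    have h1 := congrArg (fun f : MulAut P => ((f ⟨x, hx⟩ : P) : Ω)) hu
    simp only [conjAut_apply, MulAut.conj_apply, Subgroup.coe_mul, Subgroup.coe_inv] at h1
    rw [show x * ((u : Ω)⁻¹ * g) = (u : Ω)⁻¹ * ((u : Ω) * x * (u : Ω)⁻¹) * g by group, h1]
    group
  have := P.mul_mem u.2 (centralizerIn_le_of_isCentric hPc hc)
  rwa [mul_inv_cancel_left] at this

/-- In the setting the system has a nontrivial normal subgroup. -/
theorem core_ne_bot (h : Setting S Z p) (hp : Odd p) (hF : F.IsSaturated p) : F.core ≠ ⊥ := by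
  intro hO
  suffices hN : ∃ L : Subgroup Ω, L ≠ ⊥ ∧ F.IsNormal L by
    obtain ⟨L, hL, hn⟩ := hN
    exact hL (le_bot_iff.1 (hO ▸ le_core F hn))
  have hcr : ∀ P : Subgroup Ω, (P = S ∨ F.IsEssential p P) → F.IsCentric P ∧ F.IsRadical p P := fun P hP => by
    rcases hP with rfl | hP
    exacts [⟨isCentric_top F, isRadical_top h.isPGroup hF⟩, ⟨hP.1, isRadical_of_isEssential h.isPGroup hF hP⟩]
  have hsubmap : ∀ (L P : Subgroup Ω), L ≤ P → ∀ α : MulAut P,
      (∀ x : P, (x : Ω) ∈ L → ((α x : P) : Ω) ∈ L) → (∀ x : P, (x : Ω) ∈ L → ((α⁻¹ x : P) : Ω) ∈ L) →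
      (L.subgroupOf P).map α.toMonoidHom = L.subgroupOf P := fun L P _ α h1 h2 => by
    ext x
    refine ⟨?_, fun hx => ⟨α⁻¹ x, h2 x hx, MulAut.apply_inv_self P α x⟩⟩
    rintro ⟨u, hu, rfl⟩
    exact h1 u hu
  by_cases hex : ∃ (P : Subgroup Ω) (χ : MulAut P), F.IsCentric P ∧ χ ∈ F.autGroup P ∧ Moves Z χ
  · obtain ⟨P₀, χ₀, hP₀, hχ₀, hm₀⟩ := hex
    obtain ⟨-, hdec, -⟩ := exists_inversion h hp hF hP₀ hχ₀ hm₀
    refine ⟨centralPart S χ₀, fun hbot => ?_, (isNormal_iff_essential h.isPGroup hF).2 fun P hP => ?_⟩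
    · refine h.bigger fun w hw => ?_
      obtain ⟨l, hl, y, hy, rfl⟩ := hdec w hw
      rw [hbot, Subgroup.mem_bot] at hl
      rwa [hl, one_mul]
    obtain ⟨hPc, hPr⟩ := hcr P hP
    have hLP : centralPart S χ₀ ≤ P := inf_le_left.trans (center_le_centric hPc)
    suffices hall : ∀ α ∈ F.autGroup P, ∀ x : P, (x : Ω) ∈ centralPart S χ₀ → ((α x : P) : Ω) ∈ centralPart S χ₀ from
      ⟨hLP, fun α hα => hsubmap _ _ hLP α (hall α hα) (hall α⁻¹ (Subgroup.inv_mem _ hα))⟩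
    by_cases hPm : ∃ χ ∈ F.autGroup P, Moves Z χ
    · obtain ⟨χ, hχ, hχm⟩ := hPm
      have hmov : ∀ β ∈ F.autGroup P, Moves Z β → ∀ x : P, (x : Ω) ∈ centralPart S χ₀ →
          ((β⁻¹ x : P) : Ω) ∈ centralPart S χ₀ := by
        intro β hβ hβm x hx
        have hβm' : Moves Z β⁻¹ := hβm.inv h
        have h1 := centralPart_le h hp hF hP₀ hPc hχ₀ hm₀ hβ hβm hx
        obtain ⟨hW, hW'⟩ := (mem_centralPart x.2).1 h1
        refine centralPart_le h hp hF hPc hP₀ (Subgroup.inv_mem _ hβ) hβm' hχ₀ hm₀ ?_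
        refine (mem_centralPart (β⁻¹ x).2).2 ⟨hW', ?_⟩
        rw [inv_inv, MulAut.apply_inv_self]
        exact hW
      intro α hα x hx
      by_cases hαm : Moves Z α⁻¹
      · have := hmov _ (Subgroup.inv_mem _ hα) hαm x hx
        rwa [inv_inv] at this
      · have hαm' : Moves Z (χ * α⁻¹) := by
          obtain ⟨z, hz, hzm⟩ := hχm
          have hz' : ((α z : P) : Ω) ∈ Z := by
            by_contra h'
            exact hαm (Moves.inv h ⟨z, hz, h'⟩)
          exact ⟨α z, hz', by rwa [MulAut.mul_apply, MulAut.inv_apply_self]⟩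
        obtain ⟨w, hw, rfl⟩ : ∃ w : P, (w : Ω) ∈ centralPart S χ₀ ∧ χ⁻¹ w = x := by
          refine ⟨χ x, ?_, MulAut.inv_apply_self P χ x⟩
          have := hmov _ (Subgroup.inv_mem _ hχ) (hχm.inv h) x hx
          rwa [inv_inv] at this
        have := hmov _ (Subgroup.mul_mem _ hχ (Subgroup.inv_mem _ hα)) hαm' _ hw
        rwa [mul_inv_rev, inv_inv, MulAut.mul_apply] at this
    · push Not at hPm
      obtain rfl := eq_top_of_fixed h hPc hPr hPm
      exact fun α hα x hx => map_centralPart h hp hF hP₀ hχ₀ hm₀ hα hx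
  · refine ⟨Z, fun hbot => ?_, (isNormal_iff_essential h.isPGroup hF).2 fun P hP => ?_⟩
    · have h1 := h.card
      rw [hbot, Subgroup.card_bot] at h1
      exact (Fact.out : p.Prime).one_lt.ne h1
    obtain ⟨hPc, -⟩ := hcr P hP
    have hZP : Z ≤ P := (center_le h).trans (center_le_centric hPc)
    have hall : ∀ α ∈ F.autGroup P, ∀ x : P, (x : Ω) ∈ Z → ((α x : P) : Ω) ∈ Z := fun α hα x hx => by
      by_contra hh
      exact hex ⟨P, α, hPc, hα, x, hx, hh⟩
    exact ⟨hZP, fun α hα => hsubmap _ _ hZP α (hall α hα) (hall α⁻¹ (Subgroup.inv_mem _ hα))⟩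

end CfsgLib.FusionExtraspecial

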